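/-
Uniqueness of the plane of order four and of S(3,6,22).
-/
import Cfsg.Agent.Lib.Spor.PlaneFour.Data
import Cfsg.Agent.Lib.Spor.SmallSteiner.Iso

set_option autoImplicit false

namespace CfsgLib.Spor.Plane

open Cfsg Finset CfsgLib.Spor CfsgLib.Spor.Search

variable {γ : Type*} [Fintype γ] [DecidableEq γ] {B : Finset (Finset γ)}

theorem lines_through (hγ : Fintype.card γ = 21) (hk : ∀ b ∈ B, b.card = 5)
    (hu : ∀ F : Finset γ, F.card = 2 → ∃! b, b ∈ B ∧ F ⊆ b) (p : γ) :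
    (B.filter fun b => p ∈ b).card = 5 := by
  have h := Steiner.blocks_through hk hu {p} (by simp)
  simp [hγ, singleton_subset_iff] at h
  omega

omit [Fintype γ] in
theorem line_eq (hu : ∀ F : Finset γ, F.card = 2 → ∃! b, b ∈ B ∧ F ⊆ b) {b c : Finset γ} (hb : b ∈ B) (hc : c ∈ B)
    {p q : γ} (hpq : p ≠ q) (h1 : p ∈ b) (h2 : q ∈ b) (h3 : p ∈ c) (h4 : q ∈ c) : b = c :=
  (hu {p, q} (card_pair hpq)).unique ⟨hb, insert_subset h1 (singleton_subset_iff.2 h2)⟩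
    ⟨hc, insert_subset h3 (singleton_subset_iff.2 h4)⟩

theorem lines_meet (hγ : Fintype.card γ = 21) (hk : ∀ b ∈ B, b.card = 5)
    (hu : ∀ F : Finset γ, F.card = 2 → ∃! b, b ∈ B ∧ F ⊆ b) {b c : Finset γ} (hb : b ∈ B) (hc : c ∈ B)
    (hne : b ≠ c) : ∃ p, p ∈ b ∧ p ∈ c ∧ ∀ q, q ∈ b → q ∈ c → q = p := by
  obtain ⟨p, hp, hpb⟩ : ∃ p ∈ c, p ∉ b := not_subset.1 fun h =>
    hne (eq_of_subset_of_card_le h (by rw [hk b hb, hk c hc])).symm
  have hne' : ∀ x ∈ b, p ≠ x := fun x hx e => hpb (e ▸ hx)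
  choose L hL using fun x : b => (hu {p, x.1} (card_pair (hne' x.1 x.2))).exists
  have hinj : Function.Injective L := fun x y e => by
    by_contra h
    have hx := (hL x).2 (mem_insert_of_mem (mem_singleton_self _))
    have hy := (hL y).2 (mem_insert_of_mem (mem_singleton_self _))
    have hyp := (hL x).2 (mem_insert_self _ _)
    rw [← e] at hy
    exact hpb (line_eq hu (hL x).1 hb (fun e' => h (Subtype.ext e')) hx hy x.2 y.2 ▸ hyp)
  have himg : univ.image L = B.filter fun l => p ∈ l := eq_of_subset_of_card_le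
    (fun l hl => by
      obtain ⟨x, -, rfl⟩ := mem_image.1 hl
      exact mem_filter.2 ⟨(hL x).1, (hL x).2 (mem_insert_self _ _)⟩)
    (by rw [lines_through hγ hk hu p, card_image_of_injective _ hinj, card_univ, Fintype.card_coe, hk b hb])
  obtain ⟨x, -, hx⟩ := mem_image.1 (himg ▸ mem_filter.2 ⟨hc, hp⟩ : c ∈ univ.image L)
  refine ⟨x.1, x.2, hx ▸ (hL x).2 (mem_insert_of_mem (mem_singleton_self _)), fun q hq1 hq2 => ?_⟩
  by_contra h
  exact hne (line_eq hu hb hc h hq1 x.2 hq2 (hx ▸ (hL x).2 (mem_insert_of_mem (mem_singleton_self _))))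

theorem blocks21 (hγ : Fintype.card γ = 21) (hk : ∀ b ∈ B, b.card = 5)
    (hu : ∀ F : Finset γ, F.card = 2 → ∃! b, b ∈ B ∧ F ⊆ b) : B.card = 21 := by
  have h := blocks_card hk hu
  rw [hγ] at h
  simp [Nat.choose] at h
  omega

theorem k21_unique (hγ : Fintype.card γ = 21) (hk : ∀ b ∈ B, b.card = 5)
    (hu : ∀ F : Finset γ, F.card = 2 → ∃! b, b ∈ B ∧ F ⊆ b) :
    ∃ f : γ ≃ Fin 21, ∀ X : Finset γ, X ∈ B ↔ ∃ m ∈ k21, X.image f = mset 21 m := by
  classical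
  obtain ⟨a, b, hab⟩ := Fintype.exists_pair_of_one_lt_card (by omega : 1 < Fintype.card γ)
  obtain ⟨l0, ⟨hl0, hsub⟩, -⟩ := hu {a, b} (card_pair hab)
  have ha0 : a ∈ l0 := hsub (by simp)
  have hb0 : b ∈ l0 := hsub (by simp)
  have hrest : ((l0.erase a).erase b).card = 3 := by
    rw [card_erase_of_mem (mem_erase.2 ⟨hab.symm, hb0⟩), card_erase_of_mem ha0, hk l0 hl0]
  let r := (equivFinOfCardEq hrest).symm
  have hside : ∀ p ∈ l0, ((B.filter fun l => p ∈ l).erase l0).card = 4 := fun p hp => by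
    rw [card_erase_of_mem (mem_filter.2 ⟨hl0, hp⟩), lines_through hγ hk hu p]
  let A := (equivFinOfCardEq (hside a ha0)).symm
  let C := (equivFinOfCardEq (hside b hb0)).symm
  have hA : ∀ i, (A i).1 ≠ l0 ∧ (A i).1 ∈ B ∧ a ∈ (A i).1 := fun i =>
    ⟨ne_of_mem_erase (A i).2, mem_filter.1 (mem_of_mem_erase (A i).2)⟩
  have hC : ∀ j, (C j).1 ≠ l0 ∧ (C j).1 ∈ B ∧ b ∈ (C j).1 := fun j =>
    ⟨ne_of_mem_erase (C j).2, mem_filter.1 (mem_of_mem_erase (C j).2)⟩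
  have hAC : ∀ i j, (A i).1 ≠ (C j).1 := fun i j e =>
    (hA i).1 (line_eq hu (hA i).2.1 hl0 hab (hA i).2.2 (e ▸ (hC j).2.2) ha0 hb0)
  choose x hx using fun i j => lines_meet hγ hk hu (hA i).2.1 (hC j).2.1 (hAC i j)
  let g : Fin 21 → γ := ![a, b, (r 0).1, (r 1).1, (r 2).1, x 0 0, x 0 1, x 0 2, x 0 3, x 1 0, x 1 1, x 1 2, x 1 3,
    x 2 0, x 2 1, x 2 2, x 2 3, x 3 0, x 3 1, x 3 2, x 3 3]
  have hsurj : Function.Surjective g := by
    intro p
    by_cases hp : p ∈ l0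
    · by_cases h1 : p = a
      · exact ⟨0, h1.symm⟩
      by_cases h2 : p = b
      · exact ⟨1, h2.symm⟩
      obtain ⟨i, hi⟩ := r.surjective ⟨p, mem_erase.2 ⟨h2, mem_erase.2 ⟨h1, hp⟩⟩⟩
      obtain rfl : (r i).1 = p := congrArg Subtype.val hi
      fin_cases i <;> [exact ⟨2, rfl⟩; exact ⟨3, rfl⟩; exact ⟨4, rfl⟩]
    obtain ⟨la, ⟨hla, hla'⟩, -⟩ := hu {a, p} (card_pair fun e => hp (e ▸ ha0))
    obtain ⟨lb, ⟨hlb, hlb'⟩, -⟩ := hu {b, p} (card_pair fun e => hp (e ▸ hb0))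
    obtain ⟨i, hi⟩ := A.surjective ⟨la, mem_erase.2 ⟨fun e => hp (e ▸ hla' (by simp)), mem_filter.2 ⟨hla, hla' (by simp)⟩⟩⟩
    obtain ⟨j, hj⟩ := C.surjective ⟨lb, mem_erase.2 ⟨fun e => hp (e ▸ hlb' (by simp)), mem_filter.2 ⟨hlb, hlb' (by simp)⟩⟩⟩
    have e1 : (A i).1 = la := congrArg Subtype.val hi
    have e2 : (C j).1 = lb := congrArg Subtype.val hj
    obtain rfl := (hx i j).2.2 p (e1 ▸ hla' (by simp)) (e2 ▸ hlb' (by simp))
    fin_cases i <;> fin_cases j <;>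
      [exact ⟨5, rfl⟩; exact ⟨6, rfl⟩; exact ⟨7, rfl⟩; exact ⟨8, rfl⟩; exact ⟨9, rfl⟩; exact ⟨10, rfl⟩;
       exact ⟨11, rfl⟩; exact ⟨12, rfl⟩; exact ⟨13, rfl⟩; exact ⟨14, rfl⟩; exact ⟨15, rfl⟩; exact ⟨16, rfl⟩;
       exact ⟨17, rfl⟩; exact ⟨18, rfl⟩; exact ⟨19, rfl⟩; exact ⟨20, rfl⟩]
  have hbij : Function.Bijective g :=
    (Fintype.bijective_iff_surjective_and_card g).2 ⟨hsurj, by rw [hγ, Fintype.card_fin]⟩
  let e := (Equiv.ofBijective g hbij).symm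
  have hseed : ∀ m ∈ seed21, ∀ l ∈ B, (∀ k : Fin 21, k ∈ mset 21 m → g k ∈ l) → l.image e = mset 21 m := by
    intro m hm l hl hsubl
    refine (eq_of_subset_of_card_le (fun k hk' => mem_image.2 ⟨g k, hsubl k hk',
      (Equiv.ofBijective g hbij).symm_apply_apply k⟩) ?_).symm
    rw [card_image_of_injective _ e.injective, hk l hl, card_mset]
    exact ((by decide +kernel : ∀ m ∈ seed21, pop 21 m = 5) m hm).ge
  refine standard (n := 21) (t := 2) (k := 5) (by norm_num) 400 hk hu e seed21 ?_ (by decide +kernel)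
    perms21 k21 (by decide +kernel) (by rw [blocks21 hγ hk hu]; decide +kernel) check21
  have hm0 : ∀ k : Fin 21, k ∈ mset 21 31 → k = 0 ∨ k = 1 ∨ k = 2 ∨ k = 3 ∨ k = 4 := by decide +kernel
  have hl : ∀ k : Fin 21, k = 0 ∨ k = 1 ∨ k = 2 ∨ k = 3 ∨ k = 4 → g k ∈ l0 := by
    rintro k (rfl | rfl | rfl | rfl | rfl)
    · exact ha0
    · exact hb0
    all_goals exact mem_of_mem_erase (mem_of_mem_erase (r _).2)
  have row : ∀ i : Fin 4, ∀ k : Fin 21, k = 0 ∨ k.1 = 5 + 4 * i.1 ∨ k.1 = 6 + 4 * i.1 ∨ k.1 = 7 + 4 * i.1 ∨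
      k.1 = 8 + 4 * i.1 → g k ∈ (A i).1 := by
    intro i k h
    rcases h with rfl | h | h | h | h
    · exact (hA i).2.2
    all_goals
      fin_cases i <;> fin_cases k <;> first | (exfalso; simp at h; done) | exact (hx _ _).1
  have col : ∀ j : Fin 4, ∀ k : Fin 21, k = 1 ∨ k.1 = 5 + j.1 ∨ k.1 = 9 + j.1 ∨ k.1 = 13 + j.1 ∨
      k.1 = 17 + j.1 → g k ∈ (C j).1 := by
    intro j k h
    rcases h with rfl | h | h | h | h
    · exact (hC j).2.2
    all_goals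
      fin_cases j <;> fin_cases k <;> first | (exfalso; simp at h; done) | exact (hx _ _).2.1
  have hcases : ∀ m ∈ seed21, m = 31 ∨
      (∃ i : Fin 4, ∀ k : Fin 21, k ∈ mset 21 m → k = 0 ∨ k.1 = 5 + 4 * i.1 ∨ k.1 = 6 + 4 * i.1 ∨ k.1 = 7 + 4 * i.1 ∨
        k.1 = 8 + 4 * i.1) ∨
      (∃ j : Fin 4, ∀ k : Fin 21, k ∈ mset 21 m → k = 1 ∨ k.1 = 5 + j.1 ∨ k.1 = 9 + j.1 ∨ k.1 = 13 + j.1 ∨
        k.1 = 17 + j.1) := by decide +kernel
  intro m hm
  rcases hcases m hm with rfl | ⟨i, h⟩ | ⟨j, h⟩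
  · exact ⟨l0, hl0, hseed _ hm l0 hl0 fun k hk' => hl k (hm0 k hk')⟩
  · exact ⟨_, (hA i).2.1, hseed _ hm _ (hA i).2.1 fun k hk' => row i k (h k hk')⟩
  · exact ⟨_, (hC j).2.1, hseed _ hm _ (hC j).2.1 fun k hk' => col j k (h k hk')⟩

theorem k22_unique (hγ : Fintype.card γ = 22) (hk : ∀ b ∈ B, b.card = 6)
    (hu : ∀ F : Finset γ, F.card = 3 → ∃! b, b ∈ B ∧ F ⊆ b) :
    ∃ f : γ ≃ Fin 22, ∀ X : Finset γ, X ∈ B ↔ ∃ m ∈ k22, X.image f = mset 22 m := by
  classical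
  obtain ⟨z⟩ : Nonempty γ := Fintype.card_pos_iff.1 (by omega)
  let δ := {x // x ≠ z}
  have hδ : Fintype.card δ = 21 := by
    rw [Fintype.card_subtype_compl, Fintype.card_subtype_eq, hγ]
  let ι : δ ↪ γ := Function.Embedding.subtype _
  have hd := derived (t := 2) (k := 5) (B := (↑B : Set (Finset γ))) ⟨hk, hu⟩ ι z
    fun x => ⟨fun h => ⟨⟨x, h⟩, rfl⟩, fun ⟨y, hy⟩ => hy ▸ y.2⟩
  obtain ⟨f, hf⟩ := k21_unique hδ (B := (Set.toFinite _).toFinset (s := {c : Finset δ | insert z (c.map ι) ∈ (↑B : Set (Finset γ))}))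
    (fun b hb => hd.1 b ((Set.Finite.mem_toFinset _).1 hb)) (fun F hF => by simpa using hd.2 F hF)
  let g : γ → Fin 22 := fun x => if h : x ≠ z then Fin.castLE (by norm_num) (f ⟨x, h⟩) else 21
  have hgne : ∀ (x : γ) (h : x ≠ z), g x = Fin.castLE (by norm_num) (f ⟨x, h⟩) := fun x h => dif_pos h
  have hgz : g z = 21 := by simp [g]
  have hinj : Function.Injective g := by
    intro x y hxy
    by_cases hx : x = z <;> by_cases hy : y = z
    · rw [hx, hy]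
    · exfalso; rw [hx, hgz, hgne y hy] at hxy
      have := congrArg Fin.val hxy; simp at this; omega
    · exfalso; rw [hy, hgz, hgne x hx] at hxy
      have := congrArg Fin.val hxy; simp at this; omega
    · rw [hgne x hx, hgne y hy] at hxy
      exact congrArg Subtype.val (f.injective (Fin.castLE_injective _ hxy))
  let e := Equiv.ofBijective g ((Fintype.bijective_iff_injective_and_card g).2 ⟨hinj, by rw [hγ, Fintype.card_fin]⟩)
  have hB : B.card = 77 := by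
    have h := blocks_card hk hu
    rw [hγ] at h
    simp [Nat.choose] at h
    omega
  refine standard (n := 22) (t := 3) (k := 6) (by norm_num) 2000 hk hu e (k21.map (· ||| 2097152)) ?_
    (by decide +kernel) perms22 k22 (by decide +kernel) (by rw [hB]; decide +kernel) check22
  intro m hm
  obtain ⟨m0, hm0, rfl⟩ := List.mem_map.1 hm
  obtain ⟨c, hc⟩ : ∃ c, c.image f = mset 21 m0 :=
    ⟨(mset 21 m0).image f.symm, by rw [image_image, Equiv.self_comp_symm, image_id]⟩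
  have hcB : insert z (c.map ι) ∈ B := by simpa using (hf c).2 ⟨m0, hm0, hc⟩
  refine ⟨_, hcB, ?_⟩
  have hlt : m0 < 2 ^ 21 := (by decide +kernel : ∀ m ∈ k21, m < 2 ^ 21) m0 hm0
  ext i
  obtain ⟨x, rfl⟩ := e.surjective i
  rw [mem_mset, show (2097152 : ℕ) = 2 ^ 21 by norm_num, Nat.testBit_or, Nat.testBit_two_pow, mem_image]
  have hex : (∃ y ∈ insert z (c.map ι), e y = e x) ↔ x ∈ insert z (c.map ι) :=
    ⟨fun ⟨y, hy, h⟩ => e.injective h ▸ hy, fun h => ⟨x, h, rfl⟩⟩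
  rw [hex]
  show x ∈ insert z (c.map ι) ↔ (m0.testBit (g x).1 || decide (21 = (g x).1)) = true
  by_cases hx : x = z
  · simp [hx, hgz]
  · rw [hgne x hx, Fin.val_castLE]
    have hne : ¬ 21 = (f ⟨x, hx⟩).1 := fun h => by have := (f ⟨x, hx⟩).2; omega
    simp only [hne, decide_false, Bool.or_false, mem_insert, hx, false_or]
    rw [← mem_mset, ← hc, mem_image, mem_map]
    exact ⟨fun ⟨y, hy, h⟩ => ⟨y, hy, congrArg f (Subtype.ext h)⟩, fun ⟨y, hy, h⟩ =>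
      ⟨y, hy, congrArg Subtype.val (f.injective h)⟩⟩

theorem steiner21 (hγ : Fintype.card γ = 21) {L : Set (Finset γ)} (hL : IsSteinerSystem 2 5 L) :
    ∃ f : γ ≃ Fin 21, (fun b : Finset γ => b.image f) '' L = fam 21 k21 := by
  classical
  obtain ⟨f, hf⟩ := k21_unique hγ (B := L.toFinite.toFinset) (fun b hb => hL.1 b (by simpa using hb))
    (fun F hF => by simpa using hL.2 F hF)
  exact ⟨f, image_eq_fam f fun X => by simpa using hf X⟩

theorem steiner22 (hγ : Fintype.card γ = 22) {L : Set (Finset γ)} (hL : IsSteinerSystem 3 6 L) :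
    ∃ f : γ ≃ Fin 22, (fun b : Finset γ => b.image f) '' L = fam 22 k22 := by
  classical
  obtain ⟨f, hf⟩ := k22_unique hγ (B := L.toFinite.toFinset) (fun b hb => hL.1 b (by simpa using hb))
    (fun F hF => by simpa using hL.2 F hF)
  exact ⟨f, image_eq_fam f fun X => by simpa using hf X⟩

end CfsgLib.Spor.Plane
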