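/-
Arcs and hyperovals of the plane of order four.
-/
import Cfsg.Agent.Lib.Spor.PlaneFour.Unique
import Mathlib.GroupTheory.Perm.Closure
import Mathlib.GroupTheory.Perm.Fin

set_option autoImplicit false

namespace CfsgLib.Spor.Plane

open Cfsg Finset CfsgLib.Spor CfsgLib.Spor.Search

/-- An arc of `k` points. -/
def IsArc {α : Type*} [DecidableEq α] (L : Set (Finset α)) (k : ℕ) (S : Finset α) : Prop :=
  S.card = k ∧ ∀ l ∈ L, (l ∩ S).card ≤ 2

theorem grow_nodup (n t k : ℕ) (S : List ℕ) (ht : 0 < t) : ∀ i, (grow n t k S i).Nodup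
  | 0 => by simp [grow]
  | i + 1 => by
    have hmod : ∀ c ∈ grow n t k S i, ∀ d ∈ growStep n t k (S.filter fun a => a.testBit i) i c, d % 2 ^ i = c := by
      intro c hc d hd
      have hlt := (grow_spec ht i c hc).1
      rw [growStep] at hd
      have key : (2 ^ i ||| c) % 2 ^ i = c := Nat.eq_of_testBit_eq fun j => by
        rw [Nat.testBit_mod_two_pow, Nat.testBit_or, Nat.testBit_two_pow]
        by_cases hj : j < i
        · simp [hj, (ne_of_lt hj).symm]
        · simp [hj, Nat.testBit_eq_false_of_lt (hlt.trans_le (Nat.pow_le_pow_right (by norm_num) (Nat.not_lt.1 hj)))]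
      split_ifs at hd <;> simp only [List.mem_cons, List.not_mem_nil, or_false] at hd
      · rcases hd with rfl | rfl
        · exact Nat.mod_eq_of_lt hlt
        · exact key
      · subst hd; exact Nat.mod_eq_of_lt hlt
    rw [grow, List.nodup_flatMap]
    refine ⟨fun c hc => ?_, (grow_nodup n t k S ht i).imp_of_mem fun {a b} ha hb hne d hd hd' =>
      hne ((hmod a ha d hd).symm.trans (hmod b hb d hd'))⟩
    rw [growStep]
    split_ifs
    · have hlt := (grow_spec ht i c hc).1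
      simp only [List.nodup_cons, List.mem_singleton, List.not_mem_nil, not_false_eq_true, List.nodup_nil, and_true]
      intro e
      have := congrArg (fun m => m.testBit i) e
      simp [Nat.testBit_or, Nat.testBit_eq_false_of_lt hlt] at this
    · simp

theorem kCands_nodup (n t k : ℕ) (S : List ℕ) (ht : 0 < t) : (kCands n t k S).Nodup :=
  (grow_nodup n t k S ht n).filter _

theorem k21_lt : ∀ m ∈ k21, m < 2 ^ 21 := by decide +kernel

variable {α : Type*} [DecidableEq α] {L : Set (Finset α)}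

theorem arc_iff (f : α ≃ Fin 21) (hf : (fun b : Finset α => b.image f) '' L = fam 21 k21) (k : ℕ) (S : Finset α) :
    IsArc L k S ↔ ∃ m ∈ kCands 21 3 k k21, S.image f = mset 21 m := by
  have hint : ∀ (l : Finset α) a, l.image f = mset 21 a → ∀ m, S.image f = mset 21 m →
      (l ∩ S).card = pop 21 (m &&& a) := fun l a ha m hm => by
    rw [← card_mset, mset_and, ← ha, ← hm, ← image_inter _ _ f.injective, card_image_of_injective _ f.injective,
      inter_comm]
  constructor
  · rintro ⟨hS, hl⟩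
    refine ⟨mask (S.image f), mem_kCands (mask_lt _) ?_ fun a ha => ?_, (mset_mask _).symm⟩
    · rw [← card_mset, mset_mask, card_image_of_injective _ f.injective, hS]
    · obtain ⟨l, hlL, he⟩ : mset 21 a ∈ (fun b : Finset α => b.image f) '' L := hf ▸ ⟨a, ha, rfl⟩
      have := hl l hlL
      rw [hint l a he _ (mset_mask _).symm] at this
      omega
  · rintro ⟨m, hm, he⟩
    obtain ⟨-, hp, hmeet⟩ := kCands_spec (by norm_num) hm
    refine ⟨by rw [← card_image_of_injective _ f.injective, he, card_mset, hp], fun l hl => ?_⟩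
    obtain ⟨a, ha, e⟩ : l.image f ∈ fam 21 k21 := hf ▸ Set.mem_image_of_mem (fun b : Finset α => b.image f) hl
    rw [hint l a e m he]
    have := hmeet a ha
    omega

theorem ncard_arcs (f : α ≃ Fin 21) (hf : (fun b : Finset α => b.image f) '' L = fam 21 k21) (k : ℕ) :
    {S : Finset α | IsArc L k S}.ncard = (kCands 21 3 k k21).length := by
  rw [← Set.ncard_image_of_injective _ (image_injective f.injective),
    show (image f) '' {S : Finset α | IsArc L k S} = mset 21 '' ↑(kCands 21 3 k k21).toFinset from ?_,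
    Set.InjOn.ncard_image fun a ha b hb h => mset_injOn (kCands_spec (by norm_num) (List.mem_toFinset.1 ha)).1
      (kCands_spec (by norm_num) (List.mem_toFinset.1 hb)).1 h,
    Set.ncard_coe_finset, List.toFinset_card_of_nodup (kCands_nodup _ _ _ _ (by norm_num))]
  ext Y
  constructor
  · rintro ⟨S, hS, rfl⟩
    obtain ⟨m, hm, he⟩ := (arc_iff f hf k S).1 hS
    exact ⟨m, List.mem_toFinset.2 hm, he.symm⟩
  · rintro ⟨m, hm, rfl⟩
    refine ⟨(mset 21 m).image f.symm, (arc_iff f hf k _).2 ⟨m, List.mem_toFinset.1 hm, ?_⟩, ?_⟩ <;>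
      simp [image_image]

theorem ovals_cand : (ovals.all fun h => eqB 21 h 6 && decide (h < 2 ^ 21) && k21.all fun a => ltB 21 (h &&& a) 3) = true := by
  decide +kernel

theorem ovals_nodup : ovals.Nodup := by decide +kernel

theorem mem_cands_iff (m : ℕ) : m ∈ kCands 21 3 6 k21 ↔ m ∈ ovals := by
  constructor
  · intro h
    simpa using List.all_eq_true.1 ovals_complete m h
  · intro h
    have := List.all_eq_true.1 ovals_cand m h
    simp only [eqB_eq, ltB_eq, Bool.and_eq_true, beq_iff_eq, decide_eq_true_eq, List.all_eq_true] at this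
    exact mem_kCands this.1.2 this.1.1 this.2

theorem arcs_facts [Fintype α] (hα : Fintype.card α = 21) (hL : IsSteinerSystem 2 5 L) :
    {S : Finset α | IsArc L 4 S}.ncard = 2520 ∧ {H : Finset α | IsArc L 6 H}.ncard = 168 ∧
      ∀ S : Finset α, IsArc L 4 S → ∃! H : Finset α, IsArc L 6 H ∧ S ⊆ H := by
  obtain ⟨f, hf⟩ := steiner21 hα hL
  refine ⟨(ncard_arcs f hf 4).trans arcs_count.1, ?_, fun S hS => ?_⟩
  · rw [ncard_arcs f hf 6, ← List.toFinset_card_of_nodup (kCands_nodup _ _ _ _ (by norm_num : 0 < 3)),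
      show (kCands 21 3 6 k21).toFinset = ovals.toFinset from by ext m; simp [mem_cands_iff],
      List.toFinset_card_of_nodup ovals_nodup]
    decide +kernel
  obtain ⟨m, hm, he⟩ := (arc_iff f hf 4 S).1 hS
  have h1 := List.all_eq_true.1 arcs_count.2 m hm
  obtain ⟨h, hh⟩ := List.length_eq_one_iff.1 (beq_iff_eq.1 h1)
  have hh' : h ∈ ovals ∧ m &&& h = m := by
    have : h ∈ ovals.filter fun h => m &&& h == m := hh ▸ List.mem_singleton_self _
    simpa using this
  have hm21 := (kCands_spec (by norm_num) hm).1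
  refine ⟨(mset 21 h).image f.symm, ⟨(arc_iff f hf 6 _).2 ⟨h, (mem_cands_iff h).2 hh'.1, by simp [image_image]⟩,
    fun x hx => mem_image.2 ⟨f x, subset_of_and hh'.2 (he ▸ mem_image_of_mem _ hx), f.symm_apply_apply x⟩⟩, ?_⟩
  rintro H ⟨hH, hSH⟩
  obtain ⟨h', hh'', e⟩ := (arc_iff f hf 6 H).1 hH
  have : h' ∈ ovals.filter fun h => m &&& h == m := List.mem_filter.2 ⟨(mem_cands_iff h').1 hh'',
    beq_iff_eq.2 (subset_mset (by rw [← he, ← e]; exact image_subset_image hSH) hm21)⟩
  rw [hh, List.mem_singleton] at this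
  rw [← this, ← e, image_image, Equiv.symm_comp_self, image_id]

/-- An automorphism fixing a hyperoval pointwise is trivial. -/
theorem eq_one_of_fix [Fintype α] (hα : Fintype.card α = 21) (hL : IsSteinerSystem 2 5 L) {H : Finset α}
    (hH : IsArc L 6 H) {g : Equiv.Perm α} (hg : g ∈ setSystemAut L) (hfix : ∀ h ∈ H, g h = h) : g = 1 := by
  classical
  have hk : ∀ b ∈ L.toFinite.toFinset, b.card = 5 := fun b hb => hL.1 b ((Set.Finite.mem_toFinset _).1 hb)
  have hu : ∀ F : Finset α, F.card = 2 → ∃! b, b ∈ L.toFinite.toFinset ∧ F ⊆ b := fun F hF => by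
    simpa using hL.2 F hF
  have leq : ∀ {b c : Finset α}, b ∈ L → c ∈ L → ∀ {p q : α}, p ≠ q → p ∈ b → q ∈ b → p ∈ c → q ∈ c → b = c :=
    fun hb hc => line_eq hu ((Set.Finite.mem_toFinset _).2 hb) ((Set.Finite.mem_toFinset _).2 hc)
  have secant : ∀ h ∈ H, ∀ l ∈ L, h ∈ l → ∃ h', h' ∈ H ∧ h' ∈ l ∧ h' ≠ h := by
    intro h hh l hl hhl
    choose φ hφ using fun x : H.erase h => (hL.2 {h, x.1} (card_pair (ne_of_mem_erase x.2).symm)).exists
    have hinj : Function.Injective φ := fun x y e => by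
      by_contra hne
      have hx := (hφ x).2 (mem_insert_of_mem (mem_singleton_self _))
      have hy := (hφ y).2 (mem_insert_of_mem (mem_singleton_self _))
      rw [← e] at hy
      have h3 : ({h, x.1, y.1} : Finset α) ⊆ φ x ∩ H := by
        simp only [insert_subset_iff, singleton_subset_iff, mem_inter]
        exact ⟨⟨(hφ x).2 (mem_insert_self _ _), hh⟩, ⟨hx, mem_of_mem_erase x.2⟩, hy, mem_of_mem_erase y.2⟩
      have := (card_le_card h3).trans (hH.2 _ (hφ x).1)
      rw [card_eq_three.2 ⟨h, x.1, y.1, (ne_of_mem_erase x.2).symm, (ne_of_mem_erase y.2).symm,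
        fun e' => hne (Subtype.ext e'), rfl⟩] at this
      omega
    have himg : univ.image φ = L.toFinite.toFinset.filter fun l => h ∈ l := eq_of_subset_of_card_le
      (fun l hl' => by
        obtain ⟨x, -, rfl⟩ := mem_image.1 hl'
        exact mem_filter.2 ⟨(Set.Finite.mem_toFinset _).2 (hφ x).1, (hφ x).2 (mem_insert_self _ _)⟩)
      (by rw [lines_through hα hk hu h, card_image_of_injective _ hinj, card_univ, Fintype.card_coe,
        card_erase_of_mem hh, hH.1])
    obtain ⟨x, -, hx⟩ := mem_image.1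
      (himg ▸ mem_filter.2 ⟨(Set.Finite.mem_toFinset _).2 hl, hhl⟩ : l ∈ univ.image φ)
    exact ⟨x.1, mem_of_mem_erase x.2, hx ▸ (hφ x).2 (mem_insert_of_mem (mem_singleton_self _)), ne_of_mem_erase x.2⟩
  refine Equiv.ext fun p => ?_
  by_cases hp : p ∈ H
  · exact hfix p hp
  have stable : ∀ h ∈ H, ∃ l ∈ L, p ∈ l ∧ h ∈ l ∧ g p ∈ l := by
    intro h hh
    obtain ⟨l, ⟨hl, hsub⟩, -⟩ := hL.2 {p, h} (card_pair fun e => hp (e ▸ hh))
    obtain ⟨h', hh', hl', hne⟩ := secant h hh l hl (hsub (by simp))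
    have himl : l.image g ∈ L := (CfsgLib.Spor.mem_setSystemAut.1 hg) ▸ Set.mem_image_of_mem (fun b : Finset α => b.image g) hl
    have e : l.image g = l := leq himl hl hne (mem_image.2 ⟨h', hl', hfix h' hh'⟩)
      (mem_image.2 ⟨h, hsub (by simp), hfix h hh⟩) hl' (hsub (by simp))
    exact ⟨l, hl, hsub (by simp), hsub (by simp), e ▸ mem_image_of_mem _ (hsub (by simp))⟩
  obtain ⟨h1, hh1⟩ : H.Nonempty := card_pos.1 (by rw [hH.1]; norm_num)
  obtain ⟨l1, hl1, hp1, -, hg1⟩ := stable h1 hh1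
  obtain ⟨h3, hh3, hh3'⟩ : ∃ h ∈ H, h ∉ l1 := not_subset.1 fun hsub => by
    have := (card_le_card (subset_inter hsub Subset.rfl)).trans (hH.2 l1 hl1)
    rw [hH.1] at this
    omega
  obtain ⟨l2, hl2, hp2, hh32, hg2⟩ := stable h3 hh3
  by_contra hne
  exact hh3' (leq hl1 hl2 hne hg1 hp1 hg2 hp2 ▸ hh32)

/-- The six points of the base hyperoval in order. -/
def baseList : List (Fin 21) := [3, 4, 5, 6, 9, 10]

/-- The base hyperoval as a tuple. -/
def ι₀ (i : Fin 6) : Fin 21 := baseList.getD i.1 0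

theorem gen_mem (g : List ℕ × List ℕ) (hg : g ∈ gens21) : ∃ h : invPair 21 g = true, permOf 21 g h ∈ setSystemAut (fam 21 k21) := by
  have hc := List.all_eq_true.1 gens_check g hg
  simp only [Bool.and_eq_true, List.all_eq_true, List.contains_iff_mem] at hc
  refine ⟨hc.1, CfsgLib.Spor.mem_setSystemAut.2 (Set.eq_of_subset_of_ncard_le ?_
    (by rw [Set.ncard_image_of_injective _ (image_injective (Equiv.injective _))]) (Set.toFinite _))⟩
  rintro _ ⟨_, ⟨m, hm, rfl⟩, rfl⟩
  exact ⟨_, hc.2 m hm, (mset_mapFast 21 g hc.1 m).symm⟩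

theorem exists_to_oval : ∀ j, j < 168 → ∃ g ∈ setSystemAut (fam 21 k21),
    (mset 21 (ovals.getD 0 0)).image g = mset 21 (ovals.getD j 0) := by
  intro j
  induction j using Nat.strong_induction_on with
  | _ j ih =>
    intro hj
    rcases j with _ | j
    · exact ⟨1, one_mem _, by simp⟩
    have hs := List.all_eq_true.1 steps_check j (List.mem_range.2 (by omega))
    simp only [Bool.and_eq_true, decide_eq_true_eq, beq_iff_eq] at hs
    obtain ⟨⟨hi, hk⟩, he⟩ := hs
    obtain ⟨g, hg, hgi⟩ := ih (steps.getD j (0, 0)).1 (by omega) (by omega)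
    obtain ⟨hpq, hgen⟩ := gen_mem _ (by rw [List.getD_eq_getElem _ _ hk]; exact List.getElem_mem hk :
      gens21.getD (steps.getD j (0, 0)).2 ([], []) ∈ gens21)
    refine ⟨_, mul_mem hgen hg, ?_⟩
    rw [← he, mset_mapFast 21 _ hpq, ← hgi, image_image, Equiv.Perm.coe_mul]

theorem base_all (π : Equiv.Perm (Fin 6)) :
    ∃ g ∈ setSystemAut (fam 21 k21), ∀ i, g (ι₀ i) = ι₀ (π i) := by
  let T : Subgroup (Equiv.Perm (Fin 6)) :=
    { carrier := {π | ∃ g ∈ setSystemAut (fam 21 k21), ∀ i, g (ι₀ i) = ι₀ (π i)}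
      one_mem' := ⟨1, one_mem _, fun i => rfl⟩
      mul_mem' := fun {a b} ⟨g, hg, e⟩ ⟨g', hg', e'⟩ => ⟨g * g', mul_mem hg hg', fun i => by
        rw [Equiv.Perm.mul_apply, e', e, Equiv.Perm.mul_apply]⟩
      inv_mem' := fun {a} ⟨g, hg, e⟩ => ⟨g⁻¹, inv_mem hg, fun i => by
        rw [Equiv.Perm.inv_eq_iff_eq, e]; simp⟩ }
  suffices T = ⊤ from (this ▸ Subgroup.mem_top π : π ∈ T)
  refine top_unique ?_
  rw [← Equiv.Perm.closure_cycle_adjacent_swap (isCycle_finRotate (n := 4))
    (by exact support_finRotate) (0 : Fin 6), Subgroup.closure_le]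
  have h0 : gens21.getD 0 ([], []) ∈ gens21 ∧ gens21.getD 1 ([], []) ∈ gens21 := by decide +kernel
  obtain ⟨hp0, hg0⟩ := gen_mem _ h0.1
  obtain ⟨hp1, hg1⟩ := gen_mem _ h0.2
  have k0 : ∀ i : Fin 6, (gens21.getD 0 ([], [])).1.getD (ι₀ i).1 21 = (ι₀ (finRotate 6 i)).1 := by decide +kernel
  have k1 : ∀ i : Fin 6, (gens21.getD 1 ([], [])).1.getD (ι₀ i).1 21 = (ι₀ (Equiv.swap (0 : Fin 6) (finRotate 6 0) i)).1 := by
    decide +kernel
  have e0 : ∀ i, permOf 21 _ hp0 (ι₀ i) = ι₀ (finRotate 6 i) := fun i => Fin.ext (k0 i)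
  have e1 : ∀ i, permOf 21 _ hp1 (ι₀ i) = ι₀ (Equiv.swap (0 : Fin 6) (finRotate 6 0) i) := fun i => Fin.ext (k1 i)
  rintro x (rfl | rfl)
  · exact ⟨_, hg0, e0⟩
  · exact ⟨_, hg1, e1⟩

theorem exists_extend [Fintype α] (hα : Fintype.card α = 21) (hL : IsSteinerSystem 2 5 L) {H : Finset α}
    (hH : IsArc L 6 H) (σ : Equiv.Perm ↥H) : ∃! g : Equiv.Perm α, g ∈ setSystemAut L ∧ ∀ p : ↥H, g p = σ p := by
  obtain ⟨f, hf⟩ := steiner21 hα hL
  obtain ⟨h, hh, he⟩ := (arc_iff f hf 6 H).1 hH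
  obtain ⟨j, hj, rfl⟩ := List.getElem_of_mem ((mem_cands_iff h).1 hh)
  obtain ⟨u, hu, hu'⟩ := exists_to_oval j (hj.trans_eq (by decide +kernel : ovals.length = 168))
  rw [List.getD_eq_getElem (l := ovals) (d := 0) hj] at hu'
  have hι : ∀ i, ι₀ i ∈ mset 21 (ovals.getD 0 0) := by decide +kernel
  have hι' : ∀ x ∈ mset 21 (ovals.getD 0 0), ∃ i, ι₀ i = x := by decide +kernel
  have hιinj : Function.Injective ι₀ := by decide +kernel
  let j' : Fin 6 → ↥H := fun i => ⟨f.symm (u (ι₀ i)), by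
    have : u (ι₀ i) ∈ H.image f := by rw [he, ← hu']; exact mem_image_of_mem _ (hι i)
    obtain ⟨x, hx, e⟩ := mem_image.1 this
    rw [← e, f.symm_apply_apply]; exact hx⟩
  have hj' : Function.Bijective j' := by
    refine (Fintype.bijective_iff_injective_and_card j').2 ⟨fun a b e => ?_, by rw [Fintype.card_fin, Fintype.card_coe, hH.1]⟩
    exact hιinj (u.injective (f.symm.injective (congrArg Subtype.val e)))
  let J := Equiv.ofBijective j' hj'
  obtain ⟨g, hg, hgι⟩ := base_all (J.trans (σ.trans J.symm))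
  let A := CfsgLib.Spor.autEquiv f hf
  refine ⟨(A.symm ⟨u * g * u⁻¹, mul_mem (mul_mem hu hg) (inv_mem hu)⟩).1, ⟨Subtype.prop _, fun p => ?_⟩, ?_⟩
  · obtain ⟨i, rfl⟩ := J.surjective p
    show f.symm.permCongrHom (u * g * u⁻¹) (f.symm (u (ι₀ i))) = (σ (J i)).1
    have e2 : J ((J.trans (σ.trans J.symm)) i) = σ (J i) := by simp
    rw [← e2]
    show _ = f.symm (u (ι₀ ((J.trans (σ.trans J.symm)) i)))
    rw [← hgι]
    simp
  · rintro g' ⟨hg', hσ⟩
    set G := (A.symm ⟨u * g * u⁻¹, mul_mem (mul_mem hu hg) (inv_mem hu)⟩).1 with hG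
    have := eq_one_of_fix hα hL hH (mul_mem (inv_mem (Subtype.prop _ : G ∈ setSystemAut L)) hg') fun p hp => ?_
    · exact (inv_mul_eq_one.1 this).symm
    obtain ⟨i, hi⟩ := J.surjective ⟨p, hp⟩
    rw [Equiv.Perm.mul_apply, Equiv.Perm.inv_eq_iff_eq]
    have e2 : J ((J.trans (σ.trans J.symm)) i) = σ (J i) := by simp
    rw [show p = (J i).1 from (congrArg Subtype.val hi).symm, hσ (J i)]
    show (σ (J i)).1 = f.symm.permCongrHom (u * g * u⁻¹) (f.symm (u (ι₀ i)))
    rw [← e2]
    show f.symm (u (ι₀ ((J.trans (σ.trans J.symm)) i))) = _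
    rw [← hgι]
    simp

end CfsgLib.Spor.Plane
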