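/-
The automorphism group of S(3,6,22).
-/
import Cfsg.Agent.Lib.Spor.PlaneFour.Hyperovals
import Cfsg.Agent.Lib.Spor.M24Transitive
import Cfsg.Agent.Lib.Spor.SetSystemConj
import Cfsg.Agent.S0363
import Cfsg.Agent.S0378
import Cfsg.Agent.S0379
import Cfsg.Prelude.Def_Sporadic
import Mathlib.Data.Fintype.CardEmbedding

set_option autoImplicit false

namespace CfsgLib.Spor.Plane

open Cfsg Finset CfsgLib.Spor CfsgLib.Spor.Search
open scoped Pointwise

variable {α : Type*} [Fintype α] [DecidableEq α] {B : Set (Finset α)}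

theorem rigid22 (hα : Fintype.card α = 22) (hB : IsSteinerSystem 3 6 B) {z : α} {h0 : Finset α} (hh0 : h0 ∈ B)
    (hz : z ∉ h0) {g : Equiv.Perm α} (hg : g ∈ setSystemAut B) (hgz : g z = z) (hfix : ∀ x ∈ h0, g x = x) : g = 1 := by
  classical
  let δ := {x // x ≠ z}
  have hδ : Fintype.card δ = 21 := by
    rw [Fintype.card_subtype_compl, Fintype.card_subtype_eq, hα]
  let ι : δ ↪ α := Function.Embedding.subtype _
  have hL := derived (t := 2) (k := 5) hB ι z
    fun x => ⟨fun h => ⟨⟨x, h⟩, rfl⟩, fun ⟨y, hy⟩ => hy ▸ y.2⟩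
  set H : Finset δ := h0.subtype fun x => x ≠ z
  have hmap : H.map ι = h0 := by
    rw [subtype_map, filter_eq_self]
    exact fun x hx e => hz (e ▸ hx)
  have hH : IsArc {c : Finset δ | insert z (c.map ι) ∈ B} 6 H := by
    refine ⟨by rw [← card_map ι, hmap, hB.1 h0 hh0], fun l hl => ?_⟩
    by_contra hgt
    obtain ⟨F, hF, hFc⟩ := exists_subset_card_eq (Nat.succ_le_of_lt (Nat.lt_of_not_le hgt))
    have e := (hB.2 (F.map ι) (by rw [card_map, hFc])).unique
      ⟨hl, (map_subset_map.2 (hF.trans inter_subset_left)).trans (subset_insert _ _)⟩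
      ⟨hh0, hmap ▸ map_subset_map.2 (hF.trans inter_subset_right)⟩
    exact hz (e ▸ mem_insert_self _ _)
  let g' : Equiv.Perm δ := g.subtypePerm fun x =>
    ⟨fun h e => h (by rw [e, hgz]), fun h e => h (g.injective (e.trans hgz.symm))⟩
  have hmap' : ∀ c : Finset δ, insert z ((c.image g').map ι) = (insert z (c.map ι)).image g := by
    intro c
    rw [image_insert, hgz, map_eq_image, map_eq_image, image_image, image_image]
    rfl
  have hg' : g' ∈ setSystemAut {c : Finset δ | insert z (c.map ι) ∈ B} := by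
    rw [CfsgLib.Spor.mem_setSystemAut]
    refine Set.eq_of_subset_of_ncard_le ?_
      (by rw [Set.ncard_image_of_injective _ (image_injective (Equiv.injective _))]) (Set.toFinite _)
    rintro _ ⟨c, hc, rfl⟩
    show insert z _ ∈ B
    rw [hmap']
    exact (CfsgLib.Spor.mem_setSystemAut.1 hg) ▸ Set.mem_image_of_mem (fun b : Finset α => b.image g) hc
  have e := eq_one_of_fix hδ hL hH hg' fun x hx => Subtype.ext (hfix x.1 (mem_subtype.1 hx))
  refine Equiv.ext fun x => ?_
  by_cases hx : x = z
  · rw [hx, hgz]; rfl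
  · exact congrArg Subtype.val (Equiv.ext_iff.1 e ⟨x, hx⟩)

theorem card_le22 (hα : Fintype.card α = 22) (hB : IsSteinerSystem 3 6 B) :
    Nat.card (setSystemAut B) ≤ 887040 := by
  classical
  set Bf := B.toFinite.toFinset
  have hk : ∀ b ∈ Bf, b.card = 6 := fun b hb => hB.1 b ((Set.Finite.mem_toFinset _).1 hb)
  have hu : ∀ F : Finset α, F.card = 3 → ∃! b, b ∈ Bf ∧ F ⊆ b := fun F hF => by simpa [Bf] using hB.2 F hF
  have hB77 : Bf.card = 77 := by
    have h := blocks_card hk hu
    rw [hα] at h
    simp [Nat.choose] at h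
    omega
  have hout : ∀ x, (Bf.filter fun b => x ∉ b).card = 56 := fun x => by
    have h := Steiner.blocks_through hk hu {x} (by simp)
    simp [hα, Nat.choose, singleton_subset_iff] at h
    have := card_filter_add_card_filter_not (s := Bf) (fun b => x ∈ b)
    omega
  obtain ⟨z⟩ : Nonempty α := Fintype.card_pos_iff.1 (by omega)
  obtain ⟨h0, hh0⟩ := card_pos.1 (by rw [hout z]; norm_num : 0 < (Bf.filter fun b => z ∉ b).card)
  obtain ⟨hh0B, hz⟩ := mem_filter.1 hh0
  rw [Set.Finite.mem_toFinset] at hh0B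
  let x : Fin 6 → α := fun i => ((h0.equivFinOfCardEq (hB.1 h0 hh0B)).symm i).1
  let T := Σ w : α, Σ b : {b // b ∈ Bf.filter fun b => w ∉ b}, Fin 6 ≃ {y // y ∈ b.1}
  have hT : Fintype.card T = 887040 := by
    simp only [T, Fintype.card_sigma]
    have he : ∀ (w : α) (b : {b // b ∈ Bf.filter fun b => w ∉ b}), Fintype.card (Fin 6 ≃ {y // y ∈ b.1}) = 720 := by
      intro w b
      rw [Fintype.card_equiv (Fintype.equivFinOfCardEq (by
        rw [Fintype.card_coe]; exact hk b.1 (mem_filter.1 b.2).1)).symm, Fintype.card_fin]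
      rfl
    simp only [he, sum_const, card_univ, Fintype.card_coe, hout, hα, smul_eq_mul]
  let toT : setSystemAut B → α × (Fin 6 → α) := fun g => (g.1 z, fun i => g.1 (x i))
  have hinj : Function.Injective toT := fun g g' e => by
    have e1 := congrArg Prod.fst e
    have e2 := congrArg Prod.snd e
    have := rigid22 hα hB hh0B hz (mul_mem (inv_mem g'.2) g.2)
      (by rw [Equiv.Perm.mul_apply, Equiv.Perm.inv_eq_iff_eq]; exact e1) fun y hy => by
        obtain ⟨i, hi⟩ := (h0.equivFinOfCardEq (hB.1 h0 hh0B)).symm.surjective ⟨y, hy⟩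
        have hxy : x i = y := congrArg Subtype.val hi
        rw [Equiv.Perm.mul_apply, Equiv.Perm.inv_eq_iff_eq, ← hxy]
        exact congrFun e2 i
    exact Subtype.ext (inv_mul_eq_one.1 this).symm
  have hsub : Set.range toT ⊆ Set.range (fun t : T => ((t.1, fun i => (t.2.2 i).1) : α × (Fin 6 → α))) := by
    rintro _ ⟨g, rfl⟩
    have hgB : h0.image g.1 ∈ B :=
      (Set.ext_iff.1 (CfsgLib.Spor.mem_setSystemAut.1 g.2) _).1 (Set.mem_image_of_mem (fun b : Finset α => b.image g.1) hh0B)
    refine ⟨⟨g.1 z, ⟨h0.image g.1, mem_filter.2 ⟨(Set.Finite.mem_toFinset _).2 hgB, fun h => ?_⟩⟩,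
      (h0.equivFinOfCardEq (hB.1 h0 hh0B)).symm.trans (g.1.subtypeEquiv fun a => ?_)⟩, rfl⟩
    · obtain ⟨y, hy, e⟩ := mem_image.1 h
      obtain rfl := g.1.injective e
      exact hz hy
    · exact (mem_image.trans ⟨fun ⟨y, hy, e⟩ => g.1.injective e ▸ hy, fun h => ⟨a, h, rfl⟩⟩).symm
  calc Nat.card (setSystemAut B) = (Set.range toT).ncard := (Set.ncard_range_of_injective hinj).symm
    _ ≤ (Set.range fun t : T => ((t.1, fun i => (t.2.2 i).1) : α × (Fin 6 → α))).ncard := Set.ncard_le_ncard hsub
    _ ≤ Nat.card T := by rw [← Nat.card_coe_set_eq]; exact Finite.card_range_le _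
    _ = 887040 := by rw [Nat.card_eq_fintype_card, hT]

theorem card_stabilizer_pair {p q : GolayPt} (hpq : p ≠ q) :
    Nat.card (MulAction.stabilizer M24 ({p, q} : Finset GolayPt)) = 887040 := by
  have horb : MulAction.orbit M24 ({p, q} : Finset GolayPt) = ↑(powersetCard 2 (univ : Finset GolayPt)) := by
    ext s
    rw [mem_coe, mem_powersetCard]
    constructor
    · rintro ⟨g, rfl⟩
      exact ⟨subset_univ _, (card_smul_finset' (g : Equiv.Perm GolayPt) _).trans (card_pair hpq)⟩
    · rintro ⟨-, hs⟩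
      obtain ⟨a, b, hab, rfl⟩ := card_eq_two.1 hs
      haveI : MulAction.IsMultiplyPretransitive M24 GolayPt 5 := isMultiplyPretransitive_M24
      have h2 : MulAction.IsMultiplyPretransitive M24 GolayPt 2 :=
        MulAction.isMultiplyPretransitive_of_le (n := 5) (by norm_num) (by simp)
      obtain ⟨g, hp, hq⟩ := (MulAction.is_two_pretransitive_iff).1 h2 hpq hab
      exact ⟨g, by show g • ({p, q} : Finset GolayPt) = {a, b}; rw [smul_finset_insert, smul_finset_singleton, hp, hq]⟩
  have h := Nat.card_congr (MulAction.orbitProdStabilizerEquivGroup M24 ({p, q} : Finset GolayPt))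
  rw [Nat.card_prod, Nat.card_coe_set_eq, horb, Set.ncard_coe_finset, card_powersetCard, card_univ, card_M24] at h
  rw [show Nat.choose (Fintype.card GolayPt) 2 = 276 by rw [show Fintype.card GolayPt = 24 by simp]; decide] at h
  omega

/-- Octads through two points, on the remaining points. -/
def pairSystem (p q : GolayPt) : Set (Finset {r // r ≠ p ∧ r ≠ q}) :=
  {c | insert p (insert q (c.map (Function.Embedding.subtype _))) ∈ octads}

theorem pairSystem_steiner {p q : GolayPt} (hpq : p ≠ q) : IsSteinerSystem 3 6 (pairSystem p q) := by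
  classical
  let δ := {r : GolayPt // r ≠ p}
  let ι₁ : δ ↪ GolayPt := Function.Embedding.subtype _
  have h1 := derived (t := 4) (k := 7) Cfsg.Agent.S0363.result ι₁ p
    fun x => ⟨fun h => ⟨⟨x, h⟩, rfl⟩, fun ⟨y, hy⟩ => hy ▸ y.2⟩
  let ι₂ : {r // r ≠ p ∧ r ≠ q} ↪ δ := ⟨fun r => ⟨r.1, r.2.1⟩, fun a b h => Subtype.ext (congrArg (fun x : δ => x.1) h)⟩
  have h2 := derived (t := 3) (k := 6) h1 ι₂ (⟨q, hpq.symm⟩ : δ) fun x =>
    ⟨fun h => ⟨⟨x.1, x.2, fun e => h (Subtype.ext e)⟩, rfl⟩,
      fun ⟨y, hy⟩ h => y.2.2 (congrArg Subtype.val (hy.trans h))⟩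
  convert h2 using 1
  ext c
  have : ι₂.trans ι₁ = Function.Embedding.subtype fun r => r ≠ p ∧ r ≠ q := by ext r; rfl
  simp only [pairSystem, Set.mem_ofPred_eq, map_insert, map_map, this]
  rfl

theorem card_pairSystem_type {p q : GolayPt} (hpq : p ≠ q) : Fintype.card {r // r ≠ p ∧ r ≠ q} = 22 := by
  rw [Fintype.card_subtype, show (univ.filter fun r => r ≠ p ∧ r ≠ q) = ({p, q} : Finset GolayPt)ᶜ by ext x; simp,
    card_compl, card_pair hpq]
  simp

theorem pair_inv {p q : GolayPt} {g : M24} (hg : g • ({p, q} : Finset GolayPt) = {p, q}) (r : GolayPt) :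
    ((g : Equiv.Perm GolayPt) r ≠ p ∧ (g : Equiv.Perm GolayPt) r ≠ q) ↔ (r ≠ p ∧ r ≠ q) := by
  have h : (g : Equiv.Perm GolayPt) r ∈ ({p, q} : Finset GolayPt) ↔ r ∈ ({p, q} : Finset GolayPt) := by
    conv_lhs => rw [← hg]
    exact smul_mem_smul_finset_iff g
  simp only [mem_insert, mem_singleton] at h
  rw [ne_eq, ne_eq, ← not_or, h, not_or]

/-- The pair stabiliser on the remaining points. -/
def pairHom (p q : GolayPt) :
    MulAction.stabilizer M24 ({p, q} : Finset GolayPt) →* Equiv.Perm {r // r ≠ p ∧ r ≠ q} where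
  toFun g := Equiv.Perm.subtypePerm (g : M24).1 (pair_inv g.2)
  map_one' := Equiv.ext fun _ => Subtype.ext rfl
  map_mul' _ _ := Equiv.ext fun _ => Subtype.ext rfl

theorem pairHom_mem {p q : GolayPt} (g : MulAction.stabilizer M24 ({p, q} : Finset GolayPt)) :
    pairHom p q g ∈ setSystemAut (pairSystem p q) := by
  classical
  rw [CfsgLib.Spor.mem_setSystemAut]
  refine Set.eq_of_subset_of_ncard_le ?_
    (by rw [Set.ncard_image_of_injective _ (image_injective (Equiv.injective _))]) (Set.toFinite _)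
  rintro _ ⟨c, hc, rfl⟩
  have hg : (g : M24).1 • ({p, q} : Finset GolayPt) = {p, q} := g.2
  show _ ∈ octads
  have hmem : (g : M24).1 • insert p (insert q (c.map (Function.Embedding.subtype _))) ∈ octads :=
    smul_mem_octads (g : M24).2 hc
  convert hmem using 1
  rw [show ∀ s : Finset GolayPt, insert p (insert q s) = {p, q} ∪ s from fun s => by ext; simp [or_assoc],
    show ∀ s : Finset GolayPt, insert p (insert q s) = {p, q} ∪ s from fun s => by ext; simp [or_assoc],
    smul_finset_union, hg, map_eq_image, map_eq_image, smul_finset_def, image_image, image_image]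
  rfl

theorem pairHom_injective {p q : GolayPt} (hpq : p ≠ q) : Function.Injective (pairHom p q) := by
  classical
  rw [injective_iff_map_eq_one]
  intro g hg
  set σ : Equiv.Perm GolayPt := (g : M24).1 with hσ
  have hfix : ∀ r, r ≠ p → r ≠ q → σ r = r := fun r h1 h2 => congrArg Subtype.val (Equiv.ext_iff.1 hg ⟨r, h1, h2⟩)
  suffices hp : σ p = p by
    refine Subtype.ext (Subtype.ext (Equiv.ext fun r => ?_))
    by_cases h1 : r = p
    · rw [h1]; exact hp
    by_cases h2 : r = q
    · rw [h2]
      by_contra hne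
      have hm : σ q ∈ ({p, q} : Finset GolayPt) := by
        have h := smul_mem_smul_finset (a := σ) (mem_insert_of_mem (mem_singleton_self q) : q ∈ ({p, q} : Finset GolayPt))
        rwa [show σ • ({p, q} : Finset GolayPt) = {p, q} from g.2] at h
      simp only [mem_insert, mem_singleton] at hm
      rcases hm with h | h
      · exact hpq (σ.injective (hp.trans h.symm))
      · exact hne h
    exact hfix r h1 h2
  by_contra hne
  obtain ⟨o, ho, hpo, hqo⟩ : ∃ o ∈ octads, p ∈ o ∧ q ∉ o := by
    obtain ⟨s, hs, hs5⟩ := exists_subset_card_eq (s := ((univ : Finset GolayPt).erase p).erase q) (n := 4)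
      (by simp [card_erase_of_mem, hpq.symm])
    have hps : p ∉ s := fun h => ne_of_mem_erase (mem_of_mem_erase (hs h)) rfl
    obtain ⟨o, ho, hso⟩ := exists_octad_superset (s := insert p s) (by rw [card_insert_of_notMem hps, hs5])
    by_cases hqo : q ∈ o
    swap
    · exact ⟨o, ho, hso (mem_insert_self _ _), hqo⟩
    obtain ⟨r, hr⟩ : ∃ r, r ∉ o := by
      by_contra h
      push Not at h
      have := ho.2
      rw [eq_univ_of_forall h, card_univ] at this
      simp at this
    obtain ⟨t, ht, ht3⟩ := exists_subset_card_eq (s := s) (n := 3) (by omega)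
    have hpt : p ∉ t := fun h => hps (ht h)
    have hrt : r ∉ insert p t := fun h => hr (hso ((insert_subset_insert _ ht) h))
    obtain ⟨o', ho', hto⟩ := exists_octad_superset (s := insert r (insert p t))
      (by rw [card_insert_of_notMem hrt, card_insert_of_notMem hpt, ht3])
    refine ⟨o', ho', hto (by simp), fun hq' => hr ?_⟩
    have hqt : q ∉ insert p t := fun h => (mem_insert.1 h).elim hpq.symm fun h => ne_of_mem_erase (hs (ht h)) rfl
    rw [octad_eq_of_five ho ho' ?_]
    · exact hto (mem_insert_self _ _)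
    · calc 5 = (insert q (insert p t)).card := by rw [card_insert_of_notMem hqt, card_insert_of_notMem hpt, ht3]
        _ ≤ _ := card_le_card fun x hx => mem_inter.2 ?_
      rcases mem_insert.1 hx with rfl | hx
      · exact ⟨hqo, hq'⟩
      · exact ⟨hso ((insert_subset_insert _ ht) hx), hto (mem_insert_of_mem hx)⟩
  have hσo := smul_mem_octads (g : M24).2 ho
  have h7 : o = σ • o := octad_eq_of_five ho hσo (by
    calc 5 ≤ (o.erase p).card := by rw [card_erase_of_mem hpo, ho.2]; norm_num
      _ ≤ _ := card_le_card fun x hx => ?_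
    obtain ⟨hxp, hxo⟩ := mem_erase.1 hx
    refine mem_inter.2 ⟨hxo, mem_smul_finset.2 ⟨x, hxo, hfix x hxp fun e => hqo (e ▸ hxo)⟩⟩)
  have hm : σ p ∈ ({p, q} : Finset GolayPt) := by
    have h := smul_mem_smul_finset (a := σ) (mem_insert_self p _ : p ∈ ({p, q} : Finset GolayPt))
    rwa [show σ • ({p, q} : Finset GolayPt) = {p, q} from g.2] at h
  simp only [mem_insert, mem_singleton] at hm
  rcases hm with h | h
  · exact hne h
  · refine hqo (h ▸ ?_)
    rw [h7]
    exact smul_mem_smul_finset (a := σ) hpo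

theorem aut22 (hα : Fintype.card α = 22) (hB : IsSteinerSystem 3 6 B) :
    Nat.card (setSystemAut B) = 887040 ∧ MulAction.IsMultiplyPretransitive (setSystemAut B) α 3 ∧
      ∃ H : Subgroup (setSystemAut B), H.index = 2 ∧ IsM22 H := by
  classical
  obtain ⟨p, q, hpq⟩ : ∃ p q : GolayPt, p ≠ q := ⟨none, some 0, by simp⟩
  obtain ⟨f', hf'⟩ := steiner22 (card_pairSystem_type hpq) (pairSystem_steiner hpq)
  obtain ⟨f, hf⟩ := steiner22 hα hB
  obtain ⟨e, he⟩ := iso_of_fam f' hf' f hf
  let φ := (CfsgLib.Spor.autEquiv e he).toMonoidHom.comp ((pairHom p q).codRestrict _ pairHom_mem)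
  have hφ : Function.Injective φ := (CfsgLib.Spor.autEquiv e he).injective.comp fun a b h =>
    pairHom_injective hpq (congrArg Subtype.val h)
  have hle : Nat.card (setSystemAut B) ≤ Nat.card (MulAction.stabilizer M24 ({p, q} : Finset GolayPt)) := by
    rw [card_stabilizer_pair hpq]; exact card_le22 hα hB
  have hbij : Function.Bijective φ := (Nat.bijective_iff_injective_and_card φ).2
    ⟨hφ, le_antisymm (Nat.card_le_card_of_injective φ hφ) hle⟩
  let Φ := MulEquiv.ofBijective φ hbij
  refine ⟨by rw [← Nat.card_congr Φ.toEquiv, card_stabilizer_pair hpq], ?_, ?_⟩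
  · refine CfsgLib.Spor.multiplyPretransitive_of_iso e he ?_
    rw [MulAction.isMultiplyPretransitive_iff]
    intro x y
    haveI : MulAction.IsMultiplyPretransitive M24 GolayPt 5 := isMultiplyPretransitive_M24
    let ext5 : (Fin 3 ↪ {r // r ≠ p ∧ r ≠ q}) → Fin 5 ↪ GolayPt := fun z =>
      ⟨![p, q, (z 0).1, (z 1).1, (z 2).1], by
        have h : ∀ i, (z i).1 ≠ p ∧ (z i).1 ≠ q := fun i => (z i).2
        have hz : ∀ i j, (z i).1 = (z j).1 → i = j := fun i j e => z.injective (Subtype.ext e)
        intro i j hij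
        fin_cases i <;> fin_cases j <;>
          first
          | rfl
          | exact absurd hij hpq | exact absurd hij.symm hpq
          | exact absurd hij (h 0).1 | exact absurd hij (h 0).2 | exact absurd hij (h 1).1
          | exact absurd hij (h 1).2 | exact absurd hij (h 2).1 | exact absurd hij (h 2).2
          | exact absurd hij.symm (h 0).1 | exact absurd hij.symm (h 0).2 | exact absurd hij.symm (h 1).1
          | exact absurd hij.symm (h 1).2 | exact absurd hij.symm (h 2).1 | exact absurd hij.symm (h 2).2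
          | exact absurd (hz _ _ hij) (by decide)⟩
    obtain ⟨g, hg⟩ := MulAction.exists_smul_eq M24 (ext5 x) (ext5 y)
    have hi : ∀ i, (g : Equiv.Perm GolayPt) (ext5 x i) = ext5 y i := fun i => congrArg (fun F : Fin 5 ↪ GolayPt => F i) hg
    have hstab : g • ({p, q} : Finset GolayPt) = {p, q} := by
      rw [smul_finset_insert, smul_finset_singleton, show g • p = p from hi 0, show g • q = q from hi 1]
    refine ⟨⟨pairHom p q ⟨g, hstab⟩, pairHom_mem _⟩, Function.Embedding.ext fun i => ?_⟩
    fin_cases i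
    · exact Subtype.ext (hi 2)
    · exact Subtype.ext (hi 3)
    · exact Subtype.ext (hi 4)
  · set K := MulAction.stabilizer M24 p ⊓ MulAction.stabilizer M24 q
    have hK : K ≤ MulAction.stabilizer M24 ({p, q} : Finset GolayPt) := fun g hg => by
      rw [MulAction.mem_stabilizer_iff, smul_finset_insert, smul_finset_singleton,
        MulAction.mem_stabilizer_iff.1 hg.1, MulAction.mem_stabilizer_iff.1 hg.2]
    let ψ := φ.comp (Subgroup.inclusion hK)
    have hψ : Function.Injective ψ := hφ.comp (Subgroup.inclusion_injective hK)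
    let E := MonoidHom.ofInjective hψ
    have hcard : Nat.card ψ.range = 443520 := by
      rw [← Nat.card_congr E.toEquiv]; exact Cfsg.Agent.S0378.result p q hpq
    refine ⟨ψ.range, ?_, E.symm.isSimpleGroup_congr.2 (Cfsg.Agent.S0379.result p q hpq), hcard⟩
    have h := Subgroup.index_mul_card ψ.range
    rw [hcard, ← Nat.card_congr Φ.toEquiv, card_stabilizer_pair hpq] at h
    omega

end CfsgLib.Spor.Plane
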