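/-
A three-point stabiliser in M24 is PSL(3,4).
-/
import Cfsg.Agent.Lib.Spor.PlaneFour.Aut22
import Cfsg.Agent.Lib.Classical.SLBasic

set_option autoImplicit false

namespace CfsgLib.Spor.Plane

open Cfsg Finset CfsgLib.Spor CfsgLib.Spor.Search
open scoped Pointwise LinearAlgebra.Projectivization

variable {α : Type*} [Fintype α] [DecidableEq α]

theorem card_le21 (hα : Fintype.card α = 21) {L : Set (Finset α)} (hL : IsSteinerSystem 2 5 L) :
    Nat.card (setSystemAut L) ≤ 120960 := by
  classical
  obtain ⟨-, h168, -⟩ := arcs_facts hα hL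
  set A := (Set.toFinite {H : Finset α | IsArc L 6 H}).toFinset
  have hA : A.card = 168 := by rw [← h168, Set.ncard_eq_toFinset_card]
  obtain ⟨h0, hh0⟩ := card_pos.1 (by omega : 0 < A.card)
  have hmemA : ∀ b, b ∈ A → IsArc L 6 b := fun b hb => (Set.Finite.mem_toFinset (Set.toFinite {H : Finset α | IsArc L 6 H})).1 hb
  have hh0' : IsArc L 6 h0 := hmemA h0 hh0
  let x : Fin 6 → α := fun i => ((h0.equivFinOfCardEq hh0'.1).symm i).1
  let T := Σ b : {b // b ∈ A}, Fin 6 ≃ {y // y ∈ b.1}
  have hT : Fintype.card T = 120960 := by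
    simp only [T, Fintype.card_sigma]
    have he : ∀ b : {b // b ∈ A}, Fintype.card (Fin 6 ≃ {y // y ∈ b.1}) = 720 := by
      intro b
      rw [Fintype.card_equiv (Fintype.equivFinOfCardEq (by
        rw [Fintype.card_coe]; exact (hmemA b.1 b.2).1)).symm, Fintype.card_fin]
      rfl
    simp only [he, sum_const, card_univ, Fintype.card_coe, hA, smul_eq_mul]
  let toT : setSystemAut L → (Fin 6 → α) := fun g i => g.1 (x i)
  have hinj : Function.Injective toT := fun g g' e => by
    have := eq_one_of_fix hα hL hh0' (mul_mem (inv_mem g'.2) g.2) fun y hy => by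
      obtain ⟨i, hi⟩ := (h0.equivFinOfCardEq hh0'.1).symm.surjective ⟨y, hy⟩
      have hxy : x i = y := congrArg Subtype.val hi
      rw [Equiv.Perm.mul_apply, Equiv.Perm.inv_eq_iff_eq, ← hxy]
      exact congrFun e i
    exact Subtype.ext (inv_mul_eq_one.1 this).symm
  have hsub : Set.range toT ⊆ Set.range (fun t : T => fun i => (t.2 i).1) := by
    rintro _ ⟨g, rfl⟩
    have harc : IsArc L 6 (h0.image g.1) := by
      refine ⟨by rw [card_image_of_injective _ g.1.injective, hh0'.1], fun l hl => ?_⟩
      obtain ⟨l', hl', rfl⟩ : l ∈ (fun b : Finset α => b.image g.1) '' L :=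
        (Set.ext_iff.1 (CfsgLib.Spor.mem_setSystemAut.1 g.2) l).2 hl
      rw [← image_inter _ _ g.1.injective, card_image_of_injective _ g.1.injective]
      exact hh0'.2 l' hl'
    refine ⟨⟨⟨h0.image g.1, (Set.Finite.mem_toFinset _).2 harc⟩,
      (h0.equivFinOfCardEq hh0'.1).symm.trans (g.1.subtypeEquiv fun a => ?_)⟩, rfl⟩
    exact (mem_image.trans ⟨fun ⟨y, hy, e⟩ => g.1.injective e ▸ hy, fun h => ⟨a, h, rfl⟩⟩).symm
  calc Nat.card (setSystemAut L) = (Set.range toT).ncard := (Set.ncard_range_of_injective hinj).symm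
    _ ≤ (Set.range fun t : T => fun i => (t.2 i).1).ncard := Set.ncard_le_ncard hsub
    _ ≤ Nat.card T := by rw [← Nat.card_coe_set_eq]; exact Finite.card_range_le _
    _ = 120960 := by rw [Nat.card_eq_fintype_card, hT]

section field

variable (F : Type*) [Field F]

/-- The lines of a projective plane. -/
def projLines [Fintype (ℙ F (Fin 3 → F))] : Set (Finset (ℙ F (Fin 3 → F))) :=
  {S | ∃ W : Submodule F (Fin 3 → F), Module.finrank F W = 2 ∧ ∀ x, x ∈ S ↔ x.submodule ≤ W}

variable [Fintype F] [Fintype (ℙ F (Fin 3 → F))] [DecidableEq (ℙ F (Fin 3 → F))]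

theorem card_points (hF : Fintype.card F = 4) : Fintype.card (ℙ F (Fin 3 → F)) = 21 := by
  rw [← Nat.card_eq_fintype_card, Projectivization.card_of_finrank F (Fin 3 → F) (n := 3) (by simp),
    Nat.card_eq_fintype_card, hF]
  decide

theorem projLines_steiner (hF : Fintype.card F = 4) : IsSteinerSystem 2 5 (projLines F) := by
  classical
  constructor
  · rintro S ⟨W, hW, hS⟩
    have hinj : Function.Injective (W.subtype) := W.injective_subtype
    have e : (S : Set (ℙ F (Fin 3 → F))) = Set.range (Projectivization.map W.subtype hinj) := by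
      ext x
      rw [mem_coe, hS]
      constructor
      · intro hx
        have hv : x.rep ∈ W := hx (by
          conv_lhs => skip
          rw [Projectivization.submodule_eq]; exact Submodule.mem_span_singleton_self _)
        refine ⟨Projectivization.mk F ⟨x.rep, hv⟩ fun h => x.rep_nonzero (congrArg Subtype.val h), ?_⟩
        rw [Projectivization.map_mk]
        exact x.mk_rep
      · rintro ⟨y, rfl⟩
        induction y using Projectivization.ind with
        | h v hv =>
          rw [Projectivization.map_mk, Projectivization.submodule_mk, Submodule.span_singleton_le_iff_mem]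
          exact v.2
    have : (S : Set (ℙ F (Fin 3 → F))).ncard = 5 := by
      rw [e, Set.ncard_range_of_injective (Projectivization.map_injective _ hinj),
        Projectivization.card_of_finrank_two F W hW, Nat.card_eq_fintype_card, hF]
    rwa [Set.ncard_coe_finset] at this
  · intro s hs
    obtain ⟨x, y, hxy, rfl⟩ := card_eq_two.1 hs
    have hne : x.submodule ≠ y.submodule := fun h => hxy (Projectivization.submodule_injective h)
    have hle : Module.finrank F ↥(x.submodule ⊔ y.submodule) = 2 := by
      have h1 := Submodule.finrank_sup_add_finrank_inf_eq x.submodule y.submodule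
      rw [x.finrank_submodule, y.finrank_submodule] at h1
      have h2 : Module.finrank F ↥(x.submodule ⊓ y.submodule) = 0 := by
        by_contra h0
        have hx' : x.submodule ⊓ y.submodule = x.submodule := Submodule.eq_of_le_of_finrank_le inf_le_left
          (by rw [x.finrank_submodule]; omega)
        exact hne (Submodule.eq_of_le_of_finrank_le (hx' ▸ inf_le_right) (by rw [x.finrank_submodule, y.finrank_submodule]))
      omega
    refine ⟨univ.filter fun z => z.submodule ≤ x.submodule ⊔ y.submodule, ⟨⟨_, hle, by simp⟩, ?_⟩, ?_⟩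
    · intro z hz
      simp only [mem_insert, mem_singleton] at hz
      rcases hz with rfl | rfl
      · exact mem_filter.2 ⟨mem_univ _, le_sup_left⟩
      · exact mem_filter.2 ⟨mem_univ _, le_sup_right⟩
    · rintro S ⟨⟨W, hW, hS⟩, hsub⟩
      have e : x.submodule ⊔ y.submodule = W := Submodule.eq_of_le_of_finrank_le
        (sup_le ((hS x).1 (hsub (by simp))) ((hS y).1 (hsub (by simp)))) (by rw [hle, hW])
      ext z
      simp [hS, e]

theorem psl_mem_aut (g : Matrix.ProjectiveSpecialLinearGroup (Fin 3) F) :
    MulAction.toPermHom (Matrix.ProjectiveSpecialLinearGroup (Fin 3) F) (ℙ F (Fin 3 → F)) g ∈ setSystemAut (projLines F) := by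
  classical
  rw [CfsgLib.Spor.mem_setSystemAut]
  refine Set.eq_of_subset_of_ncard_le ?_
    (by rw [Set.ncard_image_of_injective _ (image_injective (Equiv.injective _))]) (Set.toFinite _)
  rintro _ ⟨S, ⟨W, hW, hS⟩, rfl⟩
  obtain ⟨A, rfl⟩ := QuotientGroup.mk_surjective g
  let φ : (Fin 3 → F) ≃ₗ[F] (Fin 3 → F) := Matrix.SpecialLinearGroup.toLin' A
  have hact : ∀ x : ℙ F (Fin 3 → F), ((QuotientGroup.mk A : Matrix.ProjectiveSpecialLinearGroup (Fin 3) F) • x).submodule =
      x.submodule.map φ.toLinearMap := by
    intro x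
    rw [Matrix.ProjectiveSpecialLinearGroup.smul_proj_mk]
    induction x using Projectivization.ind with
    | h v hv =>
      rw [Projectivization.submodule_mk, Submodule.map_span, Set.image_singleton]
      rfl
  refine ⟨W.map φ.toLinearMap, by rw [LinearEquiv.finrank_map_eq, hW], fun x => ?_⟩
  simp only [mem_image, MulAction.toPermHom_apply, MulAction.toPerm_apply]
  constructor
  · rintro ⟨y, hy, rfl⟩
    rw [hact]
    exact Submodule.map_mono ((hS y).1 hy)
  · intro hx
    refine ⟨(QuotientGroup.mk A : Matrix.ProjectiveSpecialLinearGroup (Fin 3) F)⁻¹ • x, (hS _).2 ?_, smul_inv_smul _ _⟩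
    rw [← smul_inv_smul (QuotientGroup.mk A : Matrix.ProjectiveSpecialLinearGroup (Fin 3) F) x, hact,
      Submodule.map_le_map_iff_of_injective φ.injective] at hx
    exact hx

theorem card_psl_three_four (hF : Fintype.card F = 4) :
    Nat.card (Matrix.ProjectiveSpecialLinearGroup (Fin 3) F) = 20160 := by
  have h := CfsgLib.Classical.card_psl_mul (F := F) (n := 3) (by norm_num)
  rw [hF, Fin.prod_univ_three] at h
  norm_num at h
  omega

end field

theorem card_stabilizer_three {p q r : GolayPt} (hpq : p ≠ q) (hpr : p ≠ r) (hqr : q ≠ r) :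
    Nat.card ↥(MulAction.stabilizer M24 p ⊓ MulAction.stabilizer M24 q ⊓ MulAction.stabilizer M24 r) = 20160 := by
  classical
  set K := MulAction.stabilizer M24 p ⊓ MulAction.stabilizer M24 q
  have horb : MulAction.orbit K r = ↑(({p, q} : Finset GolayPt)ᶜ) := by
    ext s
    simp only [mem_coe, mem_compl, mem_insert, mem_singleton, not_or]
    constructor
    · rintro ⟨g, rfl⟩
      have h1 : g.1 • p = p := g.2.1
      have h2 : g.1 • q = q := g.2.2
      exact ⟨fun e => hpr (MulAction.injective g.1 (h1.trans e.symm)), fun e => hqr (MulAction.injective g.1 (h2.trans e.symm))⟩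
    · rintro ⟨h1, h2⟩
      haveI : MulAction.IsMultiplyPretransitive M24 GolayPt 5 := isMultiplyPretransitive_M24
      haveI : MulAction.IsMultiplyPretransitive M24 GolayPt 3 :=
        MulAction.isMultiplyPretransitive_of_le (n := 5) (by norm_num) (by simp)
      obtain ⟨g, hg⟩ := MulAction.exists_smul_eq M24
        (⟨![p, q, r], by intro i j h; fin_cases i <;> fin_cases j <;> first | rfl | exact absurd h hpq | exact absurd h hpr | exact absurd h hqr | exact absurd h.symm hpq | exact absurd h.symm hpr | exact absurd h.symm hqr⟩ : Fin 3 ↪ GolayPt)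
        (⟨![p, q, s], by intro i j h; fin_cases i <;> fin_cases j <;> first | rfl | exact absurd h hpq | exact absurd h (Ne.symm h1) | exact absurd h (Ne.symm h2) | exact absurd h.symm hpq | exact absurd h.symm (Ne.symm h1) | exact absurd h.symm (Ne.symm h2)⟩ : Fin 3 ↪ GolayPt)
      have hi := fun i => congrArg (fun E : Fin 3 ↪ GolayPt => E i) hg
      exact ⟨⟨g, hi 0, hi 1⟩, hi 2⟩
  have h := Nat.card_congr (MulAction.orbitProdStabilizerEquivGroup K r)
  rw [Nat.card_prod, Nat.card_coe_set_eq, horb, Set.ncard_coe_finset, card_compl, card_pair hpq,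
    Cfsg.Agent.S0378.result p q hpq] at h
  have e : Nat.card (MulAction.stabilizer K r) = Nat.card ↥(K ⊓ MulAction.stabilizer M24 r) :=
    Nat.card_congr
      { toFun := fun g => ⟨g.1.1, g.1.2, g.2⟩
        invFun := fun g => ⟨⟨g.1, g.2.1⟩, g.2.2⟩
        left_inv := fun _ => rfl
        right_inv := fun _ => rfl }
  rw [e, show Fintype.card GolayPt = 24 by simp] at h
  omega

theorem m21_iso {p q r : GolayPt} (hpq : p ≠ q) (hpr : p ≠ r) (hqr : q ≠ r) (F : Type*) [Field F] [Fintype F]
    (hF : Fintype.card F = 4) :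
    Nonempty (↥(MulAction.stabilizer M24 p ⊓ MulAction.stabilizer M24 q ⊓ MulAction.stabilizer M24 r) ≃*
      Matrix.ProjectiveSpecialLinearGroup (Fin 3) F) := by
  classical
  haveI : Fintype (ℙ F (Fin 3 → F)) := Fintype.ofFinite _
  -- the derived plane
  let r' : {x // x ≠ p ∧ x ≠ q} := ⟨r, hpr.symm, hqr.symm⟩
  let δ := {x : {x // x ≠ p ∧ x ≠ q} // x ≠ r'}
  let ι : δ ↪ {x // x ≠ p ∧ x ≠ q} := Function.Embedding.subtype _
  have hL := derived (t := 2) (k := 5) (pairSystem_steiner hpq) ι r'
    fun x => ⟨fun h => ⟨⟨x, h⟩, rfl⟩, fun ⟨y, hy⟩ => hy ▸ y.2⟩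
  have hδ : Fintype.card δ = 21 := by
    rw [Fintype.card_subtype_compl, Fintype.card_subtype_eq, card_pairSystem_type hpq]
  obtain ⟨f', hf'⟩ := steiner21 hδ hL
  obtain ⟨f, hf⟩ := steiner21 (card_points F hF) (projLines_steiner F hF)
  obtain ⟨e, he⟩ := iso_of_fam f' hf' f hf
  set K := MulAction.stabilizer M24 p ⊓ MulAction.stabilizer M24 q ⊓ MulAction.stabilizer M24 r
  have hK : K ≤ MulAction.stabilizer M24 ({p, q} : Finset GolayPt) := fun g hg => by
    rw [MulAction.mem_stabilizer_iff, smul_finset_insert, smul_finset_singleton,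
      MulAction.mem_stabilizer_iff.1 hg.1.1, MulAction.mem_stabilizer_iff.1 hg.1.2]
  let ψ : K →* Equiv.Perm {x // x ≠ p ∧ x ≠ q} := (pairHom p q).comp (Subgroup.inclusion hK)
  have hr : ∀ g : K, ψ g r' = r' := fun g => Subtype.ext g.2.2
  have hinv : ∀ (g : K) x, ψ g x ≠ r' ↔ x ≠ r' := fun g x =>
    ⟨fun h e => h (by rw [e, hr]), fun h e => h ((ψ g).injective (e.trans (hr g).symm))⟩
  let θ : K →* Equiv.Perm δ :=
    { toFun := fun g => (ψ g).subtypePerm (hinv g)
      map_one' := Equiv.ext fun _ => Subtype.ext rfl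
      map_mul' := fun _ _ => Equiv.ext fun _ => Subtype.ext rfl }
  have hθ : ∀ g, θ g ∈ setSystemAut {c : Finset δ | insert r' (c.map ι) ∈ pairSystem p q} := by
    intro g
    rw [CfsgLib.Spor.mem_setSystemAut]
    refine Set.eq_of_subset_of_ncard_le ?_
      (by rw [Set.ncard_image_of_injective _ (image_injective (Equiv.injective _))]) (Set.toFinite _)
    rintro _ ⟨c, hc, rfl⟩
    show insert r' _ ∈ pairSystem p q
    rw [show insert r' ((c.image (θ g)).map ι) = (insert r' (c.map ι)).image (ψ g) by
      rw [image_insert, hr, map_eq_image, map_eq_image, image_image, image_image]; rfl]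
    exact (Set.ext_iff.1 (CfsgLib.Spor.mem_setSystemAut.1 (pairHom_mem (Subgroup.inclusion hK g))) _).1
      (Set.mem_image_of_mem (fun b : Finset {x // x ≠ p ∧ x ≠ q} => b.image (ψ g)) hc)
  have hθinj : Function.Injective θ := by
    rw [injective_iff_map_eq_one]
    intro g hg
    have : ψ g = 1 := Equiv.ext fun x => by
      by_cases hx : x = r'
      · rw [hx, hr]; rfl
      · exact congrArg Subtype.val (Equiv.ext_iff.1 hg ⟨x, hx⟩)
    exact Subgroup.inclusion_injective hK ((pairHom_injective hpq (this.trans (map_one _).symm)).trans (map_one _).symm)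
  let φ₁ : K →* setSystemAut (projLines F) := (CfsgLib.Spor.autEquiv e he).toMonoidHom.comp (θ.codRestrict _ hθ)
  have h1 : Function.Injective φ₁ := (CfsgLib.Spor.autEquiv e he).injective.comp fun a b h =>
    hθinj (congrArg Subtype.val h)
  let φ₂ : Matrix.ProjectiveSpecialLinearGroup (Fin 3) F →* setSystemAut (projLines F) :=
    (MulAction.toPermHom _ _).codRestrict _ (psl_mem_aut F)
  have h2 : Function.Injective φ₂ := fun a b h => MulAction.toPerm_injective (congrArg Subtype.val h)
  haveI : IsSimpleGroup (Matrix.ProjectiveSpecialLinearGroup (Fin 3) F) := CfsgLib.Classical.psl_isSimple le_rfl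
  have hA := card_le21 (card_points F hF) (projLines_steiner F hF)
  have c1 : Nat.card φ₁.range = 20160 := by
    rw [← Nat.card_congr (MonoidHom.ofInjective h1).toEquiv]; exact card_stabilizer_three hpq hpr hqr
  have c2 : Nat.card φ₂.range = 20160 := by
    rw [← Nat.card_congr (MonoidHom.ofInjective h2).toEquiv, card_psl_three_four F hF]
  have hidx : φ₁.range.index ≤ 6 := by
    have := Subgroup.index_mul_card φ₁.range
    rw [c1] at this
    omega
  let π := (MulAction.toPermHom (setSystemAut (projLines F)) (setSystemAut (projLines F) ⧸ φ₁.range)).comp φ₂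
  have hker : π.ker = ⊤ := by
    refine (π.normal_ker.eq_bot_or_eq_top).resolve_left fun hb => ?_
    have hπ : Function.Injective π := (MonoidHom.ker_eq_bot_iff π).1 hb
    have := Nat.card_le_card_of_injective π hπ
    rw [card_psl_three_four F hF, Nat.card_perm] at this
    have h720 := Nat.factorial_le (show Nat.card (setSystemAut (projLines F) ⧸ φ₁.range) ≤ 6 from hidx)
    rw [show (6 : ℕ).factorial = 720 from rfl] at h720
    omega
  have hle : φ₂.range ≤ φ₁.range := by
    rintro _ ⟨g, rfl⟩
    have hg : π g = 1 := MonoidHom.mem_ker.1 (by rw [hker]; exact Subgroup.mem_top g)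
    have := Equiv.ext_iff.1 hg (QuotientGroup.mk 1)
    simp only [π, MonoidHom.comp_apply, MulAction.toPermHom_apply, MulAction.toPerm_apply,
      Equiv.Perm.one_apply] at this
    rw [MulAction.Quotient.smul_mk, smul_eq_mul, mul_one, QuotientGroup.eq, mul_one] at this
    simpa using inv_mem this
  have heq : φ₂.range = φ₁.range := Subgroup.eq_of_le_of_card_ge hle (by rw [c1, c2])
  exact ⟨(MonoidHom.ofInjective h1).trans ((MulEquiv.subgroupCongr heq.symm).trans (MonoidHom.ofInjective h2).symm)⟩

end CfsgLib.Spor.Plane
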