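/-
Cheaper digit counts and images for kernel evaluation.
-/
import Cfsg.Agent.Lib.Spor.DesignSearch

set_option autoImplicit false

namespace CfsgLib.Spor.Plane

open Cfsg Finset CfsgLib.Spor CfsgLib.Spor.Search

/-- Deleting the lowest `k` binary digits that are set. -/
def clr : ℕ → ℕ → ℕ
  | 0, x => x
  | k + 1, x => clr k (x &&& (x - 1))

/-- Whether fewer than `t` digits below `n` are set. -/
def ltB (n x : ℕ) : ℕ → Bool
  | 0 => false
  | k + 1 => clr k (x % 2 ^ n) == 0

theorem pop_succ (n x : ℕ) : pop (n + 1) x = x % 2 + pop n (x / 2) := by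
  simp only [pop, List.range_succ_eq_map, List.countP_cons, List.countP_map, Function.comp_def,
    Nat.testBit_succ]
  rcases Nat.mod_two_eq_zero_or_one x with h | h <;> simp [Nat.testBit_zero, h]
  omega

theorem and_div_two (a b : ℕ) : (a &&& b) / 2 = a / 2 &&& b / 2 := by
  refine Nat.eq_of_testBit_eq fun i => ?_
  simp [Nat.testBit_div_two]

theorem and_mod_two (a b : ℕ) : (a &&& b) % 2 = a % 2 * (b % 2) := by
  rcases Nat.mod_two_eq_zero_or_one a with h | h <;> rcases Nat.mod_two_eq_zero_or_one b with h' | h' <;>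
    (have := Nat.and_mod_two_pow (a := a) (b := b) (n := 1); simp only [pow_one, h, h'] at this; rw [this, h, h']; rfl)

theorem pop_zero (n : ℕ) : pop n 0 = 0 := by simp [pop]

theorem pop_clear : ∀ n x, x < 2 ^ n → x ≠ 0 → pop n (x &&& (x - 1)) + 1 = pop n x
  | 0, x, hx, h0 => by simp at hx; omega
  | n + 1, x, hx, h0 => by
    rw [pop_succ, pop_succ, and_div_two, and_mod_two]
    rcases Nat.mod_two_eq_zero_or_one x with h | h
    · have h2 : (x - 1) / 2 = x / 2 - 1 := by omega
      rw [h, h2, Nat.zero_mul, Nat.zero_add, Nat.zero_add]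
      exact pop_clear n (x / 2) (by rw [pow_succ] at hx; omega) (by omega)
    · have h1 : (x - 1) % 2 = 0 := by omega
      have h2 : (x - 1) / 2 = x / 2 := by omega
      rw [h, h1, h2, Nat.and_self]
      omega

theorem clr_eq_zero {n : ℕ} : ∀ k x, x < 2 ^ n → (clr k x = 0 ↔ pop n x ≤ k)
  | 0, x, hx => by
    refine ⟨fun h => ?_, fun h => ?_⟩
    · simp [clr] at h; simp [h, pop_zero]
    · by_contra h0
      have := pop_clear n x hx h0
      omega
  | k + 1, x, hx => by
    rw [clr, clr_eq_zero k _ (lt_of_le_of_lt Nat.and_le_left hx)]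
    rcases eq_or_ne x 0 with rfl | h0
    · simp [pop_zero]
    · have := pop_clear n x hx h0
      omega

theorem pop_mod (n x : ℕ) : pop n (x % 2 ^ n) = pop n x := by
  refine List.countP_congr fun i hi => ?_
  rw [List.mem_range] at hi
  simp [Nat.testBit_mod_two_pow, hi]

theorem ltB_eq (n x t : ℕ) : ltB n x t = decide (pop n x < t) := by
  cases t with
  | zero => simp [ltB]
  | succ k =>
    rw [ltB, Bool.eq_iff_iff, beq_iff_eq, clr_eq_zero k _ (Nat.mod_lt _ (Nat.two_pow_pos n)), pop_mod, decide_eq_true_eq]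
    omega

/-- Whether exactly `k` digits below `n` are set. -/
def eqB (n x k : ℕ) : Bool := ltB n x (k + 1) && !ltB n x k

theorem eqB_eq (n x k : ℕ) : eqB n x k = (pop n x == k) := by
  rw [eqB, ltB_eq, ltB_eq, Bool.eq_iff_iff]
  simp
  omega

/-- The completion search with the cheaper count. -/
def searchF (n t : ℕ) : ℕ → List ℕ → List ℕ → List ℕ → List (List ℕ)
  | 0, _, _, _ => [[]]
  | _ + 1, [], _, acc => [acc]
  | f + 1, s :: rest, cand, acc => (cand.filter fun b => s &&& b == s).flatMap fun b =>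
      searchF n t f (rest.filter fun u => !(u &&& b == u)) (cand.filter fun c => ltB n (c &&& b) t) (b :: acc)

theorem searchF_eq (n t : ℕ) : ∀ f unc cand acc, searchF n t f unc cand acc = search n t f unc cand acc
  | 0, _, _, _ => rfl
  | f + 1, [], _, _ => rfl
  | f + 1, s :: rest, cand, acc => by
    rw [searchF, search]
    simp only [searchF_eq n t f, ltB_eq]

/-- The image of a set of digits under a list of images, digit by digit. -/
def mapFast (p : List ℕ) (n m : ℕ) : ℕ :=
  (List.range n).foldr (fun i acc => if m.testBit i then 2 ^ p.getD i n ||| acc else acc) 0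

theorem testBit_mapFast_aux (p : List ℕ) (n m j : ℕ) : ∀ l : List ℕ,
    (l.foldr (fun i acc => if m.testBit i then 2 ^ p.getD i n ||| acc else acc) 0).testBit j = true ↔
      ∃ i ∈ l, m.testBit i = true ∧ p.getD i n = j
  | [] => by simp
  | a :: l => by
    have ih := testBit_mapFast_aux p n m j l
    rw [List.foldr_cons]
    by_cases h : m.testBit a = true
    · rw [if_pos h, Nat.testBit_or, Nat.testBit_two_pow, Bool.or_eq_true, decide_eq_true_eq, ih]
      exact ⟨fun h' => h'.elim (fun e => ⟨a, by simp, h, e⟩) fun ⟨i, hi, r⟩ => ⟨i, List.mem_cons_of_mem _ hi, r⟩,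
        fun ⟨i, hi, r1, r2⟩ => (List.mem_cons.1 hi).elim (fun e => Or.inl (e ▸ r2)) fun h' => Or.inr ⟨i, h', r1, r2⟩⟩
    · rw [if_neg h, ih]
      exact ⟨fun ⟨i, hi, r⟩ => ⟨i, List.mem_cons_of_mem _ hi, r⟩,
        fun ⟨i, hi, r1, r2⟩ => (List.mem_cons.1 hi).elim (fun e => absurd (e ▸ r1) h) fun h' => ⟨i, h', r1, r2⟩⟩

theorem mset_mapFast (n : ℕ) (pq : List ℕ × List ℕ) (h : invPair n pq = true) (m : ℕ) :
    mset n (mapFast pq.1 n m) = (mset n m).image (permOf n pq h) := by
  ext j
  rw [mem_mset, mapFast, testBit_mapFast_aux, mem_image]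
  constructor
  · rintro ⟨i, hi, hm, he⟩
    exact ⟨⟨i, List.mem_range.1 hi⟩, mem_mset.2 hm, Fin.ext he⟩
  · rintro ⟨i, hi, rfl⟩
    exact ⟨i.1, List.mem_range.2 i.2, mem_mset.1 hi, rfl⟩

/-- Every completion has a listed map into the standard system. -/
def checkMaps (n : ℕ) (sols : List (List ℕ)) (perms : List (List ℕ × List ℕ)) (K : List ℕ) : Bool :=
  sols.all fun s => !s.isEmpty && perms.any fun pq => (s.all fun b => K.contains (mapFast pq.1 n b)) && invPair n pq

end CfsgLib.Spor.Plane
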