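/-
Candidate generation for the completion search, by growing sets point by point.
-/
import Cfsg.Agent.Lib.Spor.PlaneFour.Fast

set_option autoImplicit false

namespace CfsgLib.Spor.Plane

open Cfsg Finset CfsgLib.Spor CfsgLib.Spor.Search

/-- Whether a set just grown by a point is still admissible, given the constraints through that point. -/
def okAdd (n t k : ℕ) (Si : List ℕ) (c : ℕ) : Bool :=
  ltB n c (k + 1) && Si.all fun a => ltB n (c &&& a) t

/-- One step of growing. -/
def growStep (n t k : ℕ) (Si : List ℕ) (i c : ℕ) : List ℕ :=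
  if okAdd n t k Si (2 ^ i ||| c) then [c, 2 ^ i ||| c] else [c]

/-- Admissible sets of the first `i` points. -/
def grow (n t k : ℕ) (S : List ℕ) : ℕ → List ℕ
  | 0 => [0]
  | i + 1 => (grow n t k S i).flatMap (growStep n t k (S.filter fun a => a.testBit i) i)

/-- Admissible sets of `k` points. -/
def kCands (n t k : ℕ) (S : List ℕ) : List ℕ := (grow n t k S n).filter fun c => eqB n c k

theorem pop_le {n c d : ℕ} (h : c &&& d = c) : pop n c ≤ pop n d := by
  rw [← card_mset, ← card_mset]
  exact card_le_card (subset_of_and h)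

theorem mem_grow {n t k : ℕ} {S : List ℕ} {d : ℕ} (hk : pop n d ≤ k) (hS : ∀ a ∈ S, pop n (d &&& a) < t) :
    ∀ i, maskFn (fun j => d.testBit j) i ∈ grow n t k S i
  | 0 => by simp [grow, maskFn]
  | i + 1 => by
    have ih := mem_grow hk hS i
    rw [grow, List.mem_flatMap]
    refine ⟨_, ih, ?_⟩
    rw [maskFn, growStep]
    by_cases hb : d.testBit i = true
    · have hsub : (2 ^ i ||| maskFn (fun j => d.testBit j) i) &&& d = 2 ^ i ||| maskFn (fun j => d.testBit j) i := by
        refine Nat.eq_of_testBit_eq fun j => ?_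
        simp only [Nat.testBit_and, Nat.testBit_or, Nat.testBit_two_pow, testBit_maskFn]
        by_cases e : i = j
        · subst e; simp [hb]
        · cases h : d.testBit j <;> simp [e, h]
      have hok : okAdd n t k (S.filter fun a => a.testBit i) (2 ^ i ||| maskFn (fun j => d.testBit j) i) = true := by
        simp only [okAdd, ltB_eq, Bool.and_eq_true, decide_eq_true_eq, List.all_eq_true, List.mem_filter]
        refine ⟨Nat.lt_succ_of_le ((pop_le hsub).trans hk), fun a ha => lt_of_le_of_lt (pop_le ?_) (hS a ha.1)⟩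
        refine Nat.eq_of_testBit_eq fun j => ?_
        have := congrArg (fun m => m.testBit j) hsub
        simp only [Nat.testBit_and] at this ⊢
        revert this
        generalize (2 ^ i ||| maskFn (fun j => d.testBit j) i).testBit j = x
        cases x <;> cases a.testBit j <;> cases d.testBit j <;> simp
      rw [if_pos hok, if_pos hb]; simp
    · rw [if_neg hb]
      split_ifs <;> simp

theorem mem_kCands {n t k : ℕ} {S : List ℕ} {d : ℕ} (hd : d < 2 ^ n) (hk : pop n d = k)
    (hS : ∀ a ∈ S, pop n (d &&& a) < t) : d ∈ kCands n t k S := by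
  refine List.mem_filter.2 ⟨?_, by simpa [eqB_eq] using hk⟩
  have h := mem_grow hk.le hS n
  rwa [show maskFn (fun j => d.testBit j) n = d from Nat.eq_of_testBit_eq fun j => by
    rw [testBit_maskFn]
    by_cases hj : j < n
    · simp [hj]
    · simp [hj, Nat.testBit_eq_false_of_lt (hd.trans_le (Nat.pow_le_pow_right (by norm_num) (Nat.not_lt.1 hj)))]] at h

theorem grow_spec {n t k : ℕ} {S : List ℕ} (ht : 0 < t) :
    ∀ i, ∀ c ∈ grow n t k S i, c < 2 ^ i ∧ ∀ a ∈ S, pop n (c &&& a) < t
  | 0, c, hc => by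
    simp only [grow, List.mem_singleton] at hc
    subst hc
    exact ⟨by norm_num, fun a _ => by simpa [pop] using ht⟩
  | i + 1, c, hc => by
    rw [grow, List.mem_flatMap] at hc
    obtain ⟨c0, hc0, hc⟩ := hc
    obtain ⟨hlt, hgood⟩ := grow_spec ht i c0 hc0
    have hlt' : c0 < 2 ^ (i + 1) := hlt.trans (Nat.pow_lt_pow_right (by norm_num) (Nat.lt_succ_self i))
    rw [growStep] at hc
    split_ifs at hc with hok
    · simp only [List.mem_cons, List.not_mem_nil, or_false] at hc
      rcases hc with rfl | rfl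
      · exact ⟨hlt', hgood⟩
      refine ⟨Nat.or_lt_two_pow (Nat.pow_lt_pow_right (by norm_num) (Nat.lt_succ_self i)) hlt', fun a ha => ?_⟩
      simp only [okAdd, ltB_eq, Bool.and_eq_true, decide_eq_true_eq, List.all_eq_true, List.mem_filter, and_imp] at hok
      rcases Bool.eq_false_or_eq_true (a.testBit i) with h | h
      swap
      · rw [show (2 ^ i ||| c0) &&& a = c0 &&& a from Nat.eq_of_testBit_eq fun j => by
          simp only [Nat.testBit_and, Nat.testBit_or, Nat.testBit_two_pow]
          by_cases e : i = j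
          · subst e; simp [h]
          · simp [e]]
        exact hgood a ha
      · exact hok.2 a ha h
    · simp only [List.mem_singleton] at hc
      subst hc
      exact ⟨hlt', hgood⟩

theorem kCands_spec {n t k : ℕ} {S : List ℕ} (ht : 0 < t) {c : ℕ} (hc : c ∈ kCands n t k S) :
    c < 2 ^ n ∧ pop n c = k ∧ ∀ a ∈ S, pop n (c &&& a) < t := by
  obtain ⟨h1, h2⟩ := List.mem_filter.1 hc
  exact ⟨(grow_spec ht n c h1).1, by simpa [eqB_eq] using h2, (grow_spec ht n c h1).2⟩

/-- Completions of a seed. -/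
def comps (n t k fuel : ℕ) (seed : List ℕ) : List (List ℕ) :=
  searchF n t fuel ((kCands n t t []).filter fun s => seed.all fun a => !(s &&& a == s)) (kCands n t k seed) seed

theorem comps_sound {n t k : ℕ} (fuel : ℕ) (htk : t ≤ k) {D : Finset ℕ} (hD : IsDesign n t k D) (seed : List ℕ)
    (hseed : ∀ a ∈ seed, a ∈ D) :
    ∃ sol ∈ comps n t k fuel seed, sol = [] ∨ ∀ x, x ∈ D ↔ x ∈ sol := by
  rw [comps, searchF_eq]
  refine search_sound htk hD _ _ _ _ hseed (fun d hd => ?_) (fun s hs => ?_) (fun s h1 h2 => ?_)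
  · by_cases h : d ∈ seed
    · exact Or.inl h
    · exact Or.inr (mem_kCands (hD.lt d hd) (hD.size d hd) fun a ha =>
        Nat.not_le.1 fun hle => h (hD.meet d hd a (hseed a ha) hle ▸ ha))
  · obtain ⟨h1, h2⟩ := List.mem_filter.1 hs
    obtain ⟨hlt, hp⟩ := List.mem_filter.1 h1
    refine ⟨?_, by simpa [eqB_eq] using hp, fun a ha => by simpa using List.all_eq_true.1 h2 a ha⟩
    rcases Nat.eq_zero_or_pos t with rfl | ht
    · exact (grow_lt n 0 0 n s hlt)
    · exact (grow_spec ht n s hlt).1
  · by_cases h : ∃ a ∈ seed, s &&& a = s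
    · exact Or.inr h
    · refine Or.inl (List.mem_filter.2 ⟨mem_kCands h1 h2 (by simp), List.all_eq_true.2 fun a ha => ?_⟩)
      simp only [Bool.not_eq_true', beq_eq_false_iff_ne, ne_eq]
      exact fun e => h ⟨a, ha, e⟩
where
  grow_lt (n t k : ℕ) : ∀ i, ∀ c ∈ grow n t k ([] : List ℕ) i, c < 2 ^ i
  | 0, c, hc => by
    simp only [grow, List.mem_singleton] at hc
    subst hc; norm_num
  | i + 1, c, hc => by
    rw [grow, List.mem_flatMap] at hc
    obtain ⟨c0, hc0, hc⟩ := hc
    rw [growStep] at hc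
    have hlt' : c0 < 2 ^ (i + 1) := (grow_lt n t k i c0 hc0).trans (Nat.pow_lt_pow_right (by norm_num) (Nat.lt_succ_self i))
    split_ifs at hc <;> simp only [List.mem_cons, List.not_mem_nil, or_false] at hc
    · rcases hc with rfl | rfl
      · exact hlt'
      · exact Nat.or_lt_two_pow (Nat.pow_lt_pow_right (by norm_num) (Nat.lt_succ_self i)) hlt'
    · subst hc; exact hlt'

variable {γ : Type*} [Fintype γ] [DecidableEq γ] {B : Finset (Finset γ)} {n t k : ℕ}

theorem standard (htk : t ≤ k) (fuel : ℕ) (hk : ∀ b ∈ B, b.card = k)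
    (hu : ∀ F : Finset γ, F.card = t → ∃! b, b ∈ B ∧ F ⊆ b) (e : γ ≃ Fin n) (seed : List ℕ)
    (hseed : ∀ a ∈ seed, ∃ b ∈ B, b.image e = mset n a) (hlt : ∀ a ∈ seed, a < 2 ^ n)
    (perms : List (List ℕ × List ℕ)) (K : List ℕ) (hK : K.Nodup) (hKlen : K.length ≤ B.card)
    (hcheck : checkMaps n (comps n t k fuel seed) perms K = true) :
    ∃ f : γ ≃ Fin n, ∀ X : Finset γ, X ∈ B ↔ ∃ m ∈ K, X.image f = mset n m := by
  classical
  obtain ⟨sol, hsol, hok⟩ := comps_sound fuel htk (isDesign_maskSet hk hu e) seed fun a ha => by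
    obtain ⟨b, hb, he⟩ := hseed a ha
    refine mem_image.2 ⟨b, hb, mset_injOn (mask_lt _) (hlt a ha) ?_⟩
    rw [mset_mask, he]
  have hc := List.all_eq_true.1 hcheck sol hsol
  simp only [Bool.and_eq_true, List.any_eq_true, List.all_eq_true, List.contains_iff_mem,
    Bool.not_eq_true'] at hc
  obtain ⟨hne, pq, -, hmap, hpq⟩ := hc
  have hiff := hok.resolve_left fun h => by simp [h] at hne
  refine ⟨e.trans (permOf n pq hpq), ?_⟩
  have himg : ∀ b ∈ B, ∃ m ∈ K, b.image (e.trans (permOf n pq hpq)) = mset n m := fun b hb =>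
    ⟨_, hmap _ ((hiff _).1 (mem_image_of_mem _ hb)), by rw [mset_mapFast n pq hpq, mset_mask, image_image]; rfl⟩
  have hsub : B.image (fun b => b.image (e.trans (permOf n pq hpq))) ⊆ K.toFinset.image (mset n) := by
    intro Y hY
    obtain ⟨b, hb, rfl⟩ := mem_image.1 hY
    obtain ⟨m, hm, he⟩ := himg b hb
    exact mem_image.2 ⟨m, List.mem_toFinset.2 hm, he.symm⟩
  have heq := eq_of_subset_of_card_le hsub (by
    rw [card_image_of_injective _ (image_injective (e.trans (permOf n pq hpq)).injective)]
    exact card_image_le.trans ((List.toFinset_card_of_nodup hK).le.trans hKlen))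
  intro X
  refine ⟨fun hX => himg X hX, fun ⟨m, hm, he⟩ => ?_⟩
  have : X.image (e.trans (permOf n pq hpq)) ∈ B.image (fun b => b.image (e.trans (permOf n pq hpq))) := by
    rw [heq, he]; exact mem_image_of_mem _ (List.mem_toFinset.2 hm)
  obtain ⟨b, hb, he'⟩ := mem_image.1 this
  rwa [← image_injective (e.trans (permOf n pq hpq)).injective he']

end CfsgLib.Spor.Plane
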